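import Groth.Agent.HilbObsLib.Alg
import Groth.Agent.BCLib.TensorFun
import Groth.Agent.DCohLib.ClosedPush
import Groth.Agent.DevLib.Sub

/-!
# Stalks of modules over a scheme over a ring, and restriction to thickened subschemes
-/

set_option autoImplicit false
set_option backward.isDefEq.respectTransparency false
set_option linter.style.haveILetI false

universe u

open CategoryTheory CategoryTheory.Limits AlgebraicGeometry TopologicalSpace Opposite
open Groth.Agent.PullbackMod Groth.Agent.DCohLib
open scoped TensorProduct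

noncomputable section

namespace Groth.Agent.HilbObsLib

variable {B : Type u} [CommRing B] {Z Z₀ : Scheme.{u}} [Algebra B Γ(Z, ⊤)]

/-- The ring map into a stalk. -/
def scal (z : Z) : B →+* Z.presheaf.stalk z :=
  (Z.presheaf.germ ⊤ z trivial).hom.comp (algebraMap B Γ(Z, ⊤))

scoped instance stalkAlgebra (z : Z) : Algebra B (Z.presheaf.stalk z) := (scal z).toAlgebra

scoped instance stalkModule (M : Z.Modules) (z : Z) : Module B (M.presheaf.stalk z) :=
  Module.compHom _ (scal z)

scoped instance stalkTower (M : Z.Modules) (z : Z) :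
    IsScalarTower B (Z.presheaf.stalk z) (M.presheaf.stalk z) :=
  .of_algebraMap_smul fun _ _ => rfl

theorem stalk_smul_def (M : Z.Modules) (z : Z) (b : B) (x : M.presheaf.stalk z) :
    b • x = scal z b • x := rfl

/-- A map of modules on stalks, over `B`. -/
def stalkB {M N : Z.Modules} (f : M ⟶ N) (z : Z) : M.presheaf.stalk z →ₗ[B] N.presheaf.stalk z :=
  (stalkLin f z).restrictScalars B

theorem stalkB_apply {M N : Z.Modules} (f : M ⟶ N) (z : Z) (x : M.presheaf.stalk z) :
    stalkB (B := B) f z x = stalkLin f z x := rfl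

/-- Multiplication by a scalar. -/
def smulB (M : Z.Modules) (b : B) : M ⟶ M := Formal.smulModΓ M (algebraMap B Γ(Z, ⊤) b)

theorem stalkLin_smulB (M : Z.Modules) (b : B) (z : Z) (x : M.presheaf.stalk z) :
    stalkLin (smulB M b) z x = b • x :=
  BCLib.stalkLin_smulModΓ M _ z x

/-- `i` is a closed immersion, bijective on points, cut out by `I`. -/
structure Thick (i : Z₀ ⟶ Z) (I : Ideal B) : Prop where
  closedImm : IsClosedImmersion i
  surj : Function.Surjective i
  ker_le : ∀ w, RingHom.ker (i.stalkMap w).hom ≤ I.map (scal (i w))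
  map_le : ∀ (w : Z₀), ∀ b ∈ I, i.stalkMap w (scal (i w) b) = 0

theorem baseChange_ker {R S : Type u} [CommRing R] [CommRing S] [Algebra R S]
    (hs : Function.Surjective (algebraMap R S)) {M N : Type u} [AddCommGroup M] [AddCommGroup N]
    [Module R M] [Module R N] [Module S N] [IsScalarTower R S N] {f : M →ₗ[R] N}
    (hf : IsBaseChange S f) :
    Function.Surjective f ∧ ∀ x, f x = 0 ↔ x ∈ (RingHom.ker (algebraMap R S) • ⊤ : Submodule R M) := by
  let I := RingHom.ker (algebraMap R S)
  let e : (R ⧸ I) ≃ₗ[R] S := (Submodule.quotEquivOfEq _ (LinearMap.ker (Algebra.linearMap R S)) rfl).trans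
    ((Algebra.linearMap R S).quotKerEquivOfSurjective hs)
  let E : (M ⧸ (I • ⊤ : Submodule R M)) ≃ₗ[R] N :=
    (TensorProduct.quotTensorEquivQuotSMul M I).symm ≪≫ₗ
      (TensorProduct.congr e (LinearEquiv.refl R M)) ≪≫ₗ (hf.equiv.restrictScalars R)
  have hE : ∀ x, E (Submodule.Quotient.mk x) = f x := fun x => by
    show hf.equiv (TensorProduct.congr e (LinearEquiv.refl R M)
      ((TensorProduct.quotTensorEquivQuotSMul M I).symm (Submodule.Quotient.mk x))) = f x
    rw [TensorProduct.quotTensorEquivQuotSMul_symm_mk, TensorProduct.congr_tmul]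
    show hf.equiv ((algebraMap R S 1) ⊗ₜ x) = f x
    rw [map_one, IsBaseChange.equiv_tmul, one_smul]
  refine ⟨fun y => ?_, fun x => ?_⟩
  · obtain ⟨v, rfl⟩ := E.surjective y
    obtain ⟨x, rfl⟩ := Submodule.Quotient.mk_surjective _ v
    exact ⟨x, (hE x).symm⟩
  · rw [← hE, LinearEquiv.map_eq_zero_iff, Submodule.Quotient.mk_eq_zero]

variable {i : Z₀ ⟶ Z}

theorem stalkMap_surj (i : Z₀ ⟶ Z) [IsClosedImmersion i] (w : Z₀) :
    Function.Surjective (i.stalkMap w) :=
  i.stalkMap_surjective w

/-- The stalks of the restriction to a thickened subscheme. -/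
theorem pullStalk_spec (i : Z₀ ⟶ Z) [IsClosedImmersion i] (M : Z.Modules) (w : Z₀) :
    Function.Surjective (pullStalk i M w) ∧ ∀ x, pullStalk i M w x = 0 ↔
      x ∈ (RingHom.ker (i.stalkMap w).hom • ⊤ : Submodule (Z.presheaf.stalk (i w)) (M.presheaf.stalk (i w))) := by
  letI : Algebra (Z.presheaf.stalk (i w)) (Z₀.presheaf.stalk w) := (i.stalkMap w).hom.toAlgebra
  letI := Module.compHom (((Scheme.Modules.pullback i).obj M).presheaf.stalk w) (i.stalkMap w).hom
  haveI : IsScalarTower (Z.presheaf.stalk (i w)) (Z₀.presheaf.stalk w)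
      (((Scheme.Modules.pullback i).obj M).presheaf.stalk w) := .of_algebraMap_smul fun _ _ => rfl
  exact baseChange_ker (stalkMap_surj i w) (isBaseChange_pullStalkL' i M w)

theorem pullStalk_surjective {I : Ideal B} (hi : Thick i I) (M : Z.Modules) (w : Z₀) :
    Function.Surjective (pullStalk i M w) :=
  haveI := hi.closedImm
  (pullStalk_spec i M w).1

theorem pullStalk_eq_zero_iff {I : Ideal B} (hi : Thick i I) (M : Z.Modules) (w : Z₀)
    (x : M.presheaf.stalk (i w)) :
    pullStalk i M w x = 0 ↔ x ∈ (I • ⊤ : Submodule B (M.presheaf.stalk (i w))) := by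
  haveI := hi.closedImm
  rw [(pullStalk_spec i M w).2 x]
  have hk : RingHom.ker (i.stalkMap w).hom = I.map (algebraMap B (Z.presheaf.stalk (i w))) :=
    le_antisymm (hi.ker_le w) (Ideal.map_le_iff_le_comap.2 fun b hb => hi.map_le w b hb)
  rw [hk]
  constructor
  · intro h
    refine Submodule.smul_induction_on h (fun c hc y _ => ?_) (fun a b ha hb => add_mem ha hb)
    induction hc using Submodule.span_induction generalizing y with
    | mem c hc =>
      obtain ⟨b, hb, rfl⟩ := hc
      rw [algebraMap_smul]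
      exact Submodule.smul_mem_smul hb Submodule.mem_top
    | zero => rw [zero_smul]; exact zero_mem _
    | add a b _ _ ha hb =>
      rw [add_smul]
      exact add_mem (ha y Submodule.mem_top) (hb y Submodule.mem_top)
    | smul a c _ hc =>
      rw [smul_eq_mul, mul_comm, mul_smul]
      exact hc (a • y) Submodule.mem_top
  · intro h
    refine Submodule.smul_induction_on h (fun c hc y _ => ?_) (fun a b ha hb => add_mem ha hb)
    rw [← algebraMap_smul (Z.presheaf.stalk (i w)) c y]
    exact Submodule.smul_mem_smul (Ideal.mem_map_of_mem _ hc) Submodule.mem_top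

theorem pullStalk_smul_eq_zero {I : Ideal B} (hi : Thick i I) (M : Z.Modules) (w : Z₀) {b : B}
    (hb : b ∈ I) (x : M.presheaf.stalk (i w)) : pullStalk i M w (b • x) = 0 :=
  (pullStalk_eq_zero_iff hi M w _).2 (Submodule.smul_mem_smul hb Submodule.mem_top)

theorem pullback_map_smulB {I : Ideal B} (hi : Thick i I) (M : Z.Modules) {b : B} (hb : b ∈ I) :
    (Scheme.Modules.pullback i).map (smulB M b) = 0 := by
  refine (eq_zero_iff_stalk _).2 fun w => LinearMap.ext fun z => ?_
  obtain ⟨x, rfl⟩ := pullStalk_surjective hi M w z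
  refine (pullStalk_natural i (smulB M b) w x).trans ?_
  rw [stalkLin_smulB, pullStalk_smul_eq_zero hi M w hb]
  rfl

section exact

variable {S : ShortComplex Z.Modules}

/-- Exactness can be read off on stalks. -/
theorem exact_of_stalk (h : ∀ z x, stalkLin S.g z x = 0 → ∃ y, stalkLin S.f z y = x) : S.Exact := by
  rw [S.exact_iff_epi_kernel_lift]
  refine (epi_iff_stalk _).2 fun z x => ?_
  have hx : stalkLin S.g z (stalkLin (kernel.ι S.g) z x) = 0 := by
    rw [← LinearMap.comp_apply, ← stalkLin_comp, kernel.condition, DevLib.stalkLin_zero,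
      LinearMap.zero_apply]
  obtain ⟨y, hy⟩ := h z _ hx
  refine ⟨y, (mono_iff_stalk (kernel.ι S.g)).1 inferInstance z ?_⟩
  rw [← LinearMap.comp_apply, ← stalkLin_comp, kernel.lift_ι, hy]

end exact

theorem stalk_kernel_ι_inj {M N : Z.Modules} (f : M ⟶ N) (z : Z) :
    Function.Injective (stalkLin (kernel.ι f) z) :=
  (mono_iff_stalk _).1 inferInstance z

theorem stalk_kernel_ι_exists {M N : Z.Modules} (f : M ⟶ N) (z : Z) {x : M.presheaf.stalk z}
    (hx : stalkLin f z x = 0) : ∃ y, stalkLin (kernel.ι f) z y = x := by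
  have hS : (ShortComplex.mk (kernel.ι f) (cokernel.π (kernel.ι f)) (cokernel.condition _)).ShortExact :=
    ShortComplex.ShortExact.mk' (ShortComplex.exact_of_g_is_cokernel _ (cokernelIsCokernel _))
      inferInstance inferInstance
  refine ((DevLib.stalk_exact hS z x).1 ?_)
  refine (mono_iff_stalk (Abelian.factorThruCoimage f)).1 inferInstance z ?_
  rw [map_zero]
  show stalkLin (Abelian.factorThruCoimage f) z (stalkLin (Abelian.coimage.π f) z x) = 0
  rw [← LinearMap.comp_apply, ← stalkLin_comp, Abelian.coimage.fac, hx]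

theorem stalk_kernel_ι_comp {M N : Z.Modules} (f : M ⟶ N) (z : Z) (y : (kernel f).presheaf.stalk z) :
    stalkLin f z (stalkLin (kernel.ι f) z y) = 0 := by
  rw [← LinearMap.comp_apply, ← stalkLin_comp, kernel.condition, DevLib.stalkLin_zero,
    LinearMap.zero_apply]

theorem range_stalkB_kernel {M N : Z.Modules} (f : M ⟶ N) (z : Z) :
    LinearMap.range (stalkB (B := B) (kernel.ι f) z) = LinearMap.ker (stalkB f z) := by
  ext x
  exact ⟨fun ⟨y, hy⟩ => hy ▸ stalk_kernel_ι_comp f z y, fun h => stalk_kernel_ι_exists f z h⟩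

end Groth.Agent.HilbObsLib
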