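import Groth.Agent.HilbObsLib.Unique
import Groth.Agent.OmegaAffLib.Ideal
import Groth.Agent.IdealStalkLib.Cartier
import Groth.Agent.AmpleCritLib.Ideals
import Groth.Agent.FlatStage.Smooth

/-!
# Ideal sheaves as submodules of the structure sheaf
-/

set_option autoImplicit false
set_option backward.isDefEq.respectTransparency false
set_option linter.style.haveILetI false

universe u

open CategoryTheory CategoryTheory.Limits AlgebraicGeometry TopologicalSpace Opposite
open Groth.Agent.PullbackMod Groth.Agent.DCohLib Groth.Agent.ParaFLib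

noncomputable section

namespace Groth.Agent.HilbObsLib

variable {Z W : Scheme.{u}}

theorem pushStalk_toSubscheme (I : Z.IdealSheafData) (w : I.subscheme) (r : Z.presheaf.stalk (I.subschemeι w)) :
    pushStalk I.subschemeι _ w (stalkLin (ClSub.toSubscheme I) (I.subschemeι w) (r • oneG (I.subschemeι w))) =
      I.subschemeι.stalkMap w r • oneG w := by
  rw [map_smul, pushStalk_smul]
  refine congrArg (_ • ·) ?_
  refine (congrArg _ (stalkLin_germ (ClSub.toSubscheme I) (U := ⊤) (I.subschemeι w) trivial _)).trans ?_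
  refine (pushStalk_germ I.subschemeι _ w (W := ⊤) trivial _).trans ?_
  exact congrArg _ (map_one (I.subschemeι.app ⊤).hom)

theorem stalkIdeal_eq_top (I : Z.IdealSheafData) {z : Z} (h : z ∉ Set.range I.subschemeι) :
    IntMult.stalkIdeal I z = ⊤ := by
  rw [Scheme.IdealSheafData.range_subschemeι] at h
  obtain ⟨U, hzU, hU⟩ := IdealStalkLib.exists_unit_nhd I h
  rw [IdealStalkLib.stalkIdeal_eq I U z hzU, hU, Ideal.map_top]

theorem mem_range_idealModι (I : Z.IdealSheafData) (z : Z) (r : Z.presheaf.stalk z) :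
    (∃ n, stalkLin (ClSub.idealModι I) z n = r • oneG z) ↔ r ∈ IntMult.stalkIdeal I z := by
  trans stalkLin (ClSub.toSubscheme I) z (r • oneG z) = 0
  · exact ⟨fun ⟨n, hn⟩ => hn ▸ stalk_kernel_ι_comp (ClSub.toSubscheme I) z n,
      fun h => stalk_kernel_ι_exists (ClSub.toSubscheme I) z h⟩
  by_cases hz : z ∈ Set.range I.subschemeι
  · obtain ⟨w, rfl⟩ := hz
    rw [← IdealStalkLib.ker_stalkMap_subschemeι, RingHom.mem_ker,
      ← (bijective_pushStalk I.subschemeι _ w).1.eq_iff, pushStalk_toSubscheme, map_zero]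
    refine ⟨fun h => (bijective_oneG w).1 (h.trans (zero_smul _ _).symm), fun h => ?_⟩
    show I.subschemeι.stalkMap w r • oneG w = 0
    rw [show I.subschemeι.stalkMap w r = 0 from h, zero_smul]
  · haveI := subsingleton_stalk_pushforward I.subschemeι (Coh.structureModule I.subscheme) z hz
    rw [stalkIdeal_eq_top I hz]
    exact ⟨fun _ => trivial, fun _ => Subsingleton.elim _ _⟩

/-- An ideal sheaf is determined by its stalks. -/
theorem ideal_le_of_stalk {I J : Z.IdealSheafData}
    (h : ∀ z, IntMult.stalkIdeal J z ≤ IntMult.stalkIdeal I z) : J ≤ I := by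
  intro U a ha
  rw [← Scheme.IdealSheafData.ker_subschemeι_app, RingHom.mem_ker]
  refine TopCat.Presheaf.section_ext I.subscheme.sheaf (I.subschemeι ⁻¹ᵁ U.1) _ _ fun w hw => ?_
  show I.subscheme.presheaf.germ (I.subschemeι ⁻¹ᵁ U.1) w hw (I.subschemeι.app U.1 a) =
    I.subscheme.presheaf.germ (I.subschemeι ⁻¹ᵁ U.1) w hw 0
  rw [map_zero, ← Scheme.Hom.germ_stalkMap_apply]
  refine RingHom.mem_ker.1 ((IdealStalkLib.ker_stalkMap_subschemeι I w).ge (h _ ?_))
  rw [IdealStalkLib.stalkIdeal_eq J U _ hw]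
  exact Ideal.mem_map_of_mem _ ha

theorem ideal_ext_of_stalk {I J : Z.IdealSheafData}
    (h : ∀ z, IntMult.stalkIdeal I z = IntMult.stalkIdeal J z) : I = J :=
  le_antisymm (ideal_le_of_stalk fun z => (h z).le) (ideal_le_of_stalk fun z => (h z).ge)

section framed

variable {M : Z.Modules} (v : Coh.structureModule Z ≅ M)

/-- The ideal `I` as a submodule of a module isomorphic to the structure sheaf. -/
def idSub (I : Z.IdealSheafData) : Subobject M :=
  haveI : Mono (ClSub.idealModι I) := inferInstanceAs (Mono (kernel.ι _))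
  Subobject.mk (ClSub.idealModι I ≫ v.hom)

/-- The generator. -/
def gen (z : Z) : M.presheaf.stalk z := stalkLin v.hom z (oneG z)

theorem bijective_gen (z : Z) : Function.Bijective fun r : Z.presheaf.stalk z => r • gen v z := by
  have : (fun r : Z.presheaf.stalk z => r • gen v z) = stalkLin v.hom z ∘ fun r => r • oneG z :=
    funext fun r => (map_smul (stalkLin v.hom z) r (oneG z)).symm
  rw [this]
  exact ((isIso_iff_stalk v.hom).1 inferInstance z).comp (bijective_oneG z)

theorem range_mk_arrow {G : Z.Modules} (κ : G ⟶ M) [Mono κ] (z : Z) (m : M.presheaf.stalk z) :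
    (∃ n, stalkLin (Subobject.mk κ).arrow z n = m) ↔ ∃ n, stalkLin κ z n = m := by
  constructor
  · rintro ⟨n, rfl⟩
    refine ⟨stalkLin (Subobject.underlyingIso κ).hom z n, ?_⟩
    rw [← LinearMap.comp_apply, ← stalkLin_comp, Subobject.underlyingIso_hom_comp_eq_mk]
  · rintro ⟨n, rfl⟩
    refine ⟨stalkLin (Subobject.underlyingIso κ).inv z n, ?_⟩
    rw [← LinearMap.comp_apply, ← stalkLin_comp, Subobject.underlyingIso_arrow]

theorem mem_range_idSub (I : Z.IdealSheafData) (z : Z) (r : Z.presheaf.stalk z) :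
    (∃ n, stalkLin (idSub v I).arrow z n = r • gen v z) ↔ r ∈ IntMult.stalkIdeal I z := by
  haveI : Mono (ClSub.idealModι I) := inferInstanceAs (Mono (kernel.ι _))
  rw [idSub, range_mk_arrow, ← mem_range_idealModι]
  refine exists_congr fun n => ?_
  rw [stalkLin_comp, LinearMap.comp_apply, gen, ← map_smul]
  exact ((isIso_iff_stalk v.hom).1 inferInstance z).1.eq_iff

theorem idSub_injective : Function.Injective (idSub v) := fun I J h =>
  ideal_ext_of_stalk fun z => Ideal.ext fun r => by
    rw [← mem_range_idSub v I, ← mem_range_idSub v J, h]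

theorem exists_idSub {G : Z.Modules} [Coh.IsQCoh G] (κ : G ⟶ M) [Mono κ] :
    ∃ I : Z.IdealSheafData, idSub v I = Subobject.mk κ := by
  obtain ⟨I, hI⟩ := AmpleCritLib.exists_idealData (κ ≫ v.inv)
  refine ⟨I, ?_⟩
  have key : ∀ z (r : Z.presheaf.stalk z), r ∈ IntMult.stalkIdeal I z ↔
      ∃ n, stalkLin (κ ≫ v.inv) z n = r • oneG z := by
    intro z r
    obtain ⟨_, ⟨U : Z.Opens, hU, rfl⟩, hzU, -⟩ :=
      Z.isBasis_affineOpens.exists_subset_of_mem_open (Set.mem_univ z) isOpen_univ
    have hgerm : ∀ (O : Z.Opens) (hz : z ∈ O) (a : Γ(Z, O)),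
        (Coh.structureModule Z).presheaf.germ O z hz a = Z.presheaf.germ O z hz a • oneG z := by
      intro O hz a
      rw [show oneG z = (Coh.structureModule Z).presheaf.germ O z hz (1 : Γ(Z, O)) from
        ((Coh.structureModule Z).presheaf.germ_res_apply (homOfLE (le_top : O ≤ ⊤)) z hz _).symm.trans
          (congrArg _ (map_one (Z.presheaf.map (homOfLE (le_top : O ≤ ⊤)).op).hom))]
      exact (congrArg _ (smul_one_eq a).symm).trans
        (PresheafOfModules.germ_smul (R := Z.presheaf) (Coh.structureModule Z).val z O hz a _)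
    constructor
    · intro hr
      rw [IdealStalkLib.stalkIdeal_eq I ⟨U, hU⟩ z hzU] at hr
      induction hr using Submodule.span_induction with
      | mem y hy =>
        obtain ⟨a, ha, rfl⟩ := hy
        obtain ⟨g, hg⟩ := (hI ⟨U, hU⟩ a).1 ha
        exact ⟨G.presheaf.germ U z hzU g, (stalkLin_germ _ z hzU g).trans
          ((congrArg _ hg).trans (hgerm U hzU a))⟩
      | zero => exact ⟨0, by rw [map_zero, zero_smul]⟩
      | add a b _ _ ha hb =>
        obtain ⟨m, hm⟩ := ha
        obtain ⟨n, hn⟩ := hb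
        exact ⟨m + n, by rw [map_add, hm, hn, add_smul]⟩
      | smul a b _ hb =>
        obtain ⟨n, hn⟩ := hb
        exact ⟨a • n, by rw [map_smul, hn, smul_smul, smul_eq_mul]⟩
    · rintro ⟨n, hn⟩
      obtain ⟨V, hzV, g, rfl⟩ := TopCat.Presheaf.exists_germ_eq G.presheaf n
      obtain ⟨_, ⟨O : Z.Opens, hO, rfl⟩, hzO, hOle⟩ := Z.isBasis_affineOpens.exists_subset_of_mem_open
        (a := z) (u := (V : Set Z)) hzV V.2
      rw [← G.presheaf.germ_res_apply (homOfLE (hOle : O ≤ V)) z hzO g, stalkLin_germ] at hn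
      have := hgerm O hzO ((κ ≫ v.inv).app O (G.presheaf.map (homOfLE (hOle : O ≤ V)).op g))
      rw [(bijective_oneG z).1 (hn.symm.trans this), IdealStalkLib.stalkIdeal_eq I ⟨O, hO⟩ z hzO]
      exact Ideal.mem_map_of_mem _ ((hI ⟨O, hO⟩ _).2 ⟨_, rfl⟩)
  have key' : ∀ z (r : Z.presheaf.stalk z), r ∈ IntMult.stalkIdeal I z ↔
      ∃ n, stalkLin κ z n = r • gen v z := fun z r => by
    rw [key]
    refine exists_congr fun n => ?_
    rw [stalkLin_comp, LinearMap.comp_apply, gen, ← map_smul]
    refine ⟨fun h => ?_, fun h => ?_⟩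
    · rw [← h, ← LinearMap.comp_apply, ← stalkLin_comp, Iso.inv_hom_id, stalkLin_id]; rfl
    · rw [h, ← LinearMap.comp_apply, ← stalkLin_comp, Iso.hom_inv_id, stalkLin_id]; rfl
  refine le_antisymm (le_of_stalk _ _ fun z n => ?_) (le_of_stalk _ _ fun z n => ?_)
  · obtain ⟨r, hr⟩ := (bijective_gen v z).2 (stalkLin (idSub v I).arrow z n)
    obtain ⟨m, hm⟩ := (key' z r).1 ((mem_range_idSub v I z r).1 ⟨n, hr.symm⟩)
    exact (range_mk_arrow κ z _).2 ⟨m, hm.trans hr⟩
  · obtain ⟨r, hr⟩ := (bijective_gen v z).2 (stalkLin (Subobject.mk κ).arrow z n)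
    obtain ⟨m, hm⟩ := (range_mk_arrow κ z _).1 ⟨n, hr.symm⟩
    obtain ⟨m', hm'⟩ := (mem_range_idSub v I z r).2 ((key' z r).2 ⟨m, hm⟩)
    exact ⟨m', hm'.trans hr⟩

/-- Pulling back along a closed immersion is inverse image of ideals. -/
theorem imageSubobject_pull_idSub (j : W ⟶ Z) [IsClosedImmersion j] {M' : W.Modules}
    (v' : Coh.structureModule W ≅ M') (t : (Scheme.Modules.pullback j).obj M ≅ M') (I : Z.IdealSheafData) :
    imageSubobject ((Scheme.Modules.pullback j).map (idSub v I).arrow ≫ t.hom) = idSub v' (I.comap j) := by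
  let F := (Scheme.Modules.pullback j).map (idSub v I).arrow ≫ t.hom
  let θ : ∀ w, M.presheaf.stalk (j w) →+ M'.presheaf.stalk w := fun w =>
    (stalkLin t.hom w).toAddMonoidHom.comp (pullStalk j M w)
  have hθs : ∀ w r m, θ w (r • m) = j.stalkMap w r • θ w m := fun w r m => by
    show stalkLin t.hom w (pullStalk j M w (r • m)) = j.stalkMap w r • stalkLin t.hom w (pullStalk j M w m)
    rw [pullStalk_smul, map_smul]
  have hunit : ∀ w, ∃ c, IsUnit c ∧ θ w (gen v (j w)) = c • gen v' w := fun w => by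
    obtain ⟨c, hc⟩ := (bijective_gen v' w).2 (θ w (gen v (j w)))
    obtain ⟨y, hy⟩ := ((isIso_iff_stalk t.hom).1 inferInstance w).2 (gen v' w)
    obtain ⟨y', rfl⟩ := (pullStalk_spec j M w).1 y
    obtain ⟨s, rfl⟩ := (bijective_gen v (j w)).2 y'
    refine ⟨c, IsUnit.of_mul_eq_one_right (j.stalkMap w s) ((bijective_gen v' w).1 ?_), hc.symm⟩
    show (j.stalkMap w s * c) • gen v' w = (1 : W.presheaf.stalk w) • gen v' w
    rw [mul_smul, show c • gen v' w = θ w (gen v (j w)) from hc, ← hθs, one_smul]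
    exact hy
  have hF : ∀ w n, stalkLin F w (pullStalk j _ w n) = θ w (stalkLin (idSub v I).arrow (j w) n) :=
    fun w n => by
      rw [stalkLin_comp, LinearMap.comp_apply, pullStalk_natural]
      rfl
  refine le_antisymm (le_of_stalk _ _ fun w n => ?_) (le_of_stalk _ _ fun w n => ?_)
  · obtain ⟨y, rfl⟩ := (epi_iff_stalk (factorThruImageSubobject F)).1 inferInstance w n
    obtain ⟨n', rfl⟩ := (pullStalk_spec j _ w).1 y
    obtain ⟨r, hr⟩ := (bijective_gen v (j w)).2 (stalkLin (idSub v I).arrow (j w) n')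
    have hmem := (mem_range_idSub v I (j w) r).1 ⟨n', hr.symm⟩
    obtain ⟨c, -, hc⟩ := hunit w
    obtain ⟨m, hm⟩ := (mem_range_idSub v' (I.comap j) w (j.stalkMap w r * c)).2 (by
      rw [IdealStalkLib.stalkIdeal_comap]
      exact Ideal.mul_mem_right _ _ (Ideal.mem_map_of_mem _ hmem))
    refine ⟨m, hm.trans ?_⟩
    rw [← LinearMap.comp_apply, ← stalkLin_comp, imageSubobject_arrow_comp, hF, ← hr]
    exact ((mul_smul _ _ _).trans (congrArg _ hc.symm)).trans (hθs w r _).symm
  · obtain ⟨s, hs⟩ := (bijective_gen v' w).2 (stalkLin (idSub v' (I.comap j)).arrow w n)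
    have hmem := (mem_range_idSub v' (I.comap j) w s).1 ⟨n, hs.symm⟩
    obtain ⟨c, hu, hc⟩ := hunit w
    obtain ⟨d, rfl⟩ := hu
    have hmem' := Ideal.mul_mem_right (↑d⁻¹ : W.presheaf.stalk w) _ hmem
    rw [IdealStalkLib.stalkIdeal_comap,
      Ideal.mem_map_iff_of_surjective _ (j.stalkMap_surjective w)] at hmem'
    obtain ⟨r, hr, hre⟩ := hmem'
    obtain ⟨n', hn'⟩ := (mem_range_idSub v I (j w) r).2 hr
    refine ⟨stalkLin (factorThruImageSubobject F) w (pullStalk j _ w n'), ?_⟩
    rw [← LinearMap.comp_apply, ← stalkLin_comp, imageSubobject_arrow_comp, hF, hn', hθs,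
      show j.stalkMap w r = s * ↑d⁻¹ from hre, hc, smul_smul, mul_assoc, Units.inv_mul, mul_one]
    exact hs

theorem epi_toSubscheme (I : Z.IdealSheafData) : Epi (ClSub.toSubscheme I) := by
  refine (epi_iff_stalk _).2 fun z y => ?_
  by_cases hz : z ∈ Set.range I.subschemeι
  · obtain ⟨w, rfl⟩ := hz
    obtain ⟨s, hs⟩ := (bijective_oneG w).2 (pushStalk I.subschemeι _ w y)
    obtain ⟨r, rfl⟩ := I.subschemeι.stalkMap_surjective w s
    exact ⟨r • oneG _, (bijective_pushStalk I.subschemeι _ w).1 ((pushStalk_toSubscheme I w r).trans hs)⟩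
  · haveI := subsingleton_stalk_pushforward I.subschemeι (Coh.structureModule I.subscheme) z hz
    exact ⟨0, Subsingleton.elim _ _⟩

theorem nonempty_cokernel_idSub (I : Z.IdealSheafData) :
    Nonempty (cokernel (idSub v I).arrow ≅ ClSub.quotMod I) := by
  haveI := epi_toSubscheme I
  haveI : Mono (ClSub.idealModι I) := inferInstanceAs (Mono (kernel.ι _))
  refine ⟨cokernelIsoOfEq (Subobject.underlyingIso_hom_comp_eq_mk (ClSub.idealModι I ≫ v.hom)).symm ≪≫
    cokernelEpiComp _ _ ≪≫ cokernelCompIsIso _ _ ≪≫ ?_⟩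
  exact IsColimit.coconePointUniqueUpToIso (cokernelIsCokernel (kernel.ι (ClSub.toSubscheme I)))
    (Abelian.epiIsCokernelOfKernel (Fork.ofι (kernel.ι (ClSub.toSubscheme I)) _) (kernelIsKernel _))

end framed

theorem isFlatOver_pushforward_iff {S : Scheme.{u}} (ι : W ⟶ Z) [IsClosedImmersion ι] (π : Z ⟶ S)
    (M : W.Modules) :
    FlatMod.IsFlatOver π ((Scheme.Modules.pushforward ι).obj M) ↔ FlatMod.IsFlatOver (ι ≫ π) M := by
  have key : ∀ w, FlatMod.IsFlatOverAt π ((Scheme.Modules.pushforward ι).obj M) (ι w) ↔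
      FlatMod.IsFlatOverAt (ι ≫ π) M w := by
    intro w
    letI := FlatMod.moduleStalkOver π ((Scheme.Modules.pushforward ι).obj M) (ι w)
    letI : Module (S.presheaf.stalk (π (ι w))) (M.presheaf.stalk w) :=
      FlatMod.moduleStalkOver (ι ≫ π) M w
    let e : ((Scheme.Modules.pushforward ι).obj M).presheaf.stalk (ι w) ≃ₗ[S.presheaf.stalk (π (ι w))]
        M.presheaf.stalk w :=
      LinearEquiv.ofBijective
        { pushStalk ι M w with
          map_smul' := fun r n => by
            show pushStalk ι M w (π.stalkMap (ι w) r • n) = (ι ≫ π).stalkMap w r • pushStalk ι M w n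
            rw [pushStalk_smul, Scheme.Hom.stalkMap_comp]
            rfl }
        (bijective_pushStalk ι M w)
    constructor
    · intro h
      haveI : Module.Flat (S.presheaf.stalk (π (ι w))) (((Scheme.Modules.pushforward ι).obj M).presheaf.stalk (ι w)) := h
      exact (Module.Flat.of_linearEquiv e.symm : Module.Flat (S.presheaf.stalk (π (ι w))) (M.presheaf.stalk w))
    · intro h
      haveI : Module.Flat (S.presheaf.stalk (π (ι w))) (M.presheaf.stalk w) := h
      exact Module.Flat.of_linearEquiv e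
  refine ⟨fun h w => (key w).1 (h (ι w)), fun h z => ?_⟩
  by_cases hz : z ∈ Set.range ι
  · obtain ⟨w, rfl⟩ := hz
    exact (key w).2 (h w)
  · haveI := subsingleton_stalk_pushforward ι M z hz
    letI := FlatMod.moduleStalkOver π ((Scheme.Modules.pushforward ι).obj M) z
    exact Module.Flat.of_free

theorem isFlatOver_quotMod_iff {S : Scheme.{u}} (π : Z ⟶ S) (I : Z.IdealSheafData) :
    FlatMod.IsFlatOver π (ClSub.quotMod I) ↔ Flat (I.subschemeι ≫ π) := by
  rw [isFlatOver_pushforward_iff, Flat.iff_flat_stalkMap]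
  exact forall_congr' fun w => FlatStage.isFlatOverAt_structureModule _ w

end Groth.Agent.HilbObsLib
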