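import Groth.Agent.DeformLib.NilpLocal

/-!
# Lifting a flat quotient along a small extension: the module algebra
-/

set_option autoImplicit false
set_option linter.style.haveILetI false

noncomputable section

namespace Groth.Agent.HilbObsLib

open IsLocalRing

universe u

variable {B : Type u} [CommRing B] [IsLocalRing B] (ε : B)
  (hm : ∀ b ∈ maximalIdeal B, b * ε = 0) (hε : ε ≠ 0)
variable {M : Type u} [AddCommGroup M] [Module B M]

include hm in
theorem smul_eq_zero_of_mem {x : M} (hx : x ∈ (maximalIdeal B • ⊤ : Submodule B M)) : ε • x = 0 := by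
  refine Submodule.smul_induction_on hx (fun b hb y _ => ?_) (fun a b ha hb => ?_)
  · rw [smul_smul, mul_comm, hm b hb, zero_smul]
  · rw [smul_add, ha, hb, add_zero]

include hε in
/-- In a flat module the annihilator of `ε` is `m M`. -/
theorem mem_of_smul_eq_zero [Module.Flat B M] {x : M} (hx : ε • x = 0) :
    x ∈ (maximalIdeal B • ⊤ : Submodule B M) := by
  obtain ⟨k, a, y, hxy, hrel⟩ := Module.Flat.isTrivialRelation_of_sum_smul_eq_zero
    (f := fun _ : Fin 1 => ε) (x := fun _ : Fin 1 => x) (by simpa using hx)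
  have hx0 : x = ∑ j, a 0 j • y j := hxy 0
  rw [hx0]
  refine Submodule.sum_mem _ fun j _ => Submodule.smul_mem_smul ?_ Submodule.mem_top
  refine (mem_maximalIdeal _).2 fun hu => hε ?_
  have h1 : ε * a 0 j = 0 := by simpa using hrel j
  exact hu.mul_left_eq_zero.1 h1

variable {Q : Type u} [AddCommGroup Q] [Module B Q] [Module (B ⧸ Ideal.span {ε}) Q]
  [IsScalarTower B (B ⧸ Ideal.span {ε}) Q] (q : M →ₗ[B] Q)

omit [IsLocalRing B] in
theorem smul_quot (z : Q) : ε • z = 0 := by
  rw [← IsScalarTower.algebraMap_smul (B ⧸ Ideal.span {ε}) ε z, Ideal.Quotient.algebraMap_eq,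
    Ideal.Quotient.eq_zero_iff_mem.2 (Ideal.mem_span_singleton_self ε), zero_smul]

omit [IsLocalRing B] in
theorem smul_mem_ker (x : M) : ε • x ∈ LinearMap.ker q :=
  LinearMap.mem_ker.2 ((map_smul q ε x).trans (smul_quot ε _))

variable (hq : Function.Surjective q) [Module.Flat (B ⧸ Ideal.span {ε}) Q]

/-- `M / εM` as the source of `q`, linearly over `B / ε`. -/
def qbar : (M ⧸ (Ideal.span {ε} • ⊤ : Submodule B M)) →ₗ[B ⧸ Ideal.span {ε}] Q :=
  LinearMap.extendScalarsOfSurjective Ideal.Quotient.mk_surjective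
    (Submodule.liftQ _ q fun x hx => by
      refine LinearMap.mem_ker.2 ?_
      refine Submodule.smul_induction_on hx (fun b hb y _ => ?_) (fun a b ha hb => ?_)
      · obtain ⟨c, hc⟩ := Ideal.mem_span_singleton'.1 hb
        rw [map_smul, ← hc, mul_smul, smul_quot ε, smul_zero]
      · rw [map_add, ha, hb, add_zero])

omit [IsLocalRing B] [Module.Flat (B ⧸ Ideal.span {ε}) Q] in
theorem qbar_mk (x : M) : qbar ε q (Submodule.Quotient.mk x) = q x := rfl

omit [IsLocalRing B] in
theorem exists_of_mem_span_smul {x : M} (hx : x ∈ (Ideal.span {ε} • ⊤ : Submodule B M)) :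
    ∃ y, x = ε • y := by
  rw [Submodule.ideal_span_singleton_smul] at hx
  obtain ⟨y, -, rfl⟩ := (Submodule.mem_smul_pointwise_iff_exists _ _ _).1 hx
  exact ⟨y, rfl⟩

instance flat_quot [Module.Flat B M] :
    Module.Flat (B ⧸ Ideal.span {ε}) (M ⧸ (Ideal.span {ε} • ⊤ : Submodule B M)) := by
  haveI : Module.Flat (B ⧸ Ideal.span {ε}) (TensorProduct B (B ⧸ Ideal.span {ε}) M) := inferInstance
  exact Module.Flat.of_linearEquiv (LinearEquiv.extendScalarsOfSurjective Ideal.Quotient.mk_surjective
    (TensorProduct.quotTensorEquivQuotSMul M (Ideal.span {ε}))).symm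

include hm hε hq in
/-- The crucial point: `εx ∈ m N` only if `x ∈ N + m M`, for `N = ker q`. -/
theorem mem_of_smul_mem [Module.Flat B M] {x : M}
    (hx : ε • x ∈ maximalIdeal B • LinearMap.ker q) :
    x ∈ LinearMap.ker q ⊔ (maximalIdeal B • ⊤ : Submodule B M) := by
  classical
  let J : Ideal B := Ideal.span {ε}
  obtain ⟨t, b, n, hb, hn, hsum⟩ : ∃ (t : ℕ) (b : Fin t → B) (n : Fin t → M),
      (∀ i, b i ∈ maximalIdeal B) ∧ (∀ i, n i ∈ LinearMap.ker q) ∧ ∑ i, b i • n i = ε • x := by
    generalize ε • x = w at hx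
    refine Submodule.smul_induction_on hx (fun b hb y hy => ⟨1, fun _ => b, fun _ => y,
      fun _ => hb, fun _ => hy, by simp⟩) ?_
    rintro u v ⟨t, b, n, hb, hn, rfl⟩ ⟨t', b', n', hb', hn', rfl⟩
    refine ⟨t + t', Fin.addCases b b', Fin.addCases n n', ?_, ?_, ?_⟩
    · intro i; induction i using Fin.addCases <;> simp [hb, hb']
    · intro i; induction i using Fin.addCases <;> simp [hn, hn']
    · rw [Fin.sum_univ_add]; simp
  let Kb : Submodule (B ⧸ J) (M ⧸ (J • ⊤ : Submodule B M)) := LinearMap.ker (qbar ε q)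
  haveI : Module.Flat (B ⧸ J) Kb := by
    haveI : Module.Flat (B ⧸ J) ((M ⧸ (J • ⊤ : Submodule B M)) ⧸ Kb) :=
      Module.Flat.of_linearEquiv ((qbar ε q).quotKerEquivOfSurjective fun z => by
        obtain ⟨y, rfl⟩ := hq z; exact ⟨Submodule.Quotient.mk y, rfl⟩)
    exact DeformLib.flat_submodule Kb
  have hrel : ∑ i, Ideal.Quotient.mk J (b i) • (⟨Submodule.Quotient.mk (n i),
      LinearMap.mem_ker.2 (hn i)⟩ : Kb) = 0 := by
    refine Subtype.ext ?_
    rw [Submodule.coe_sum]
    show ∑ i, Ideal.Quotient.mk J (b i) • (Submodule.Quotient.mk (n i) : M ⧸ (J • ⊤ : Submodule B M)) = 0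
    have e : ∀ i, Ideal.Quotient.mk J (b i) • (Submodule.Quotient.mk (n i) : M ⧸ (J • ⊤ : Submodule B M)) =
        Submodule.Quotient.mk (b i • n i) := fun i => rfl
    calc _ = ∑ i, (J • ⊤ : Submodule B M).mkQ (b i • n i) := Finset.sum_congr rfl fun i _ => e i
      _ = (J • ⊤ : Submodule B M).mkQ (ε • x) := by rw [← map_sum, hsum]
      _ = 0 := (Submodule.Quotient.mk_eq_zero _).2
        (Submodule.smul_mem_smul (Ideal.mem_span_singleton_self ε) (Submodule.mem_top (x := x)))
  obtain ⟨k, a, y, hny, hab⟩ := Module.Flat.isTrivialRelation_of_sum_smul_eq_zero hrel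
  choose d hd using fun i j => Ideal.Quotient.mk_surjective (a i j)
  choose z hz using fun j => Submodule.Quotient.mk_surjective (J • ⊤ : Submodule B M) (y j).1
  have hzN : ∀ j, z j ∈ LinearMap.ker q := fun j => by
    have := LinearMap.mem_ker.1 (y j).2
    rw [← hz j] at this
    exact this
  have hlam : ∀ j, ∃ l : B, ∑ i, b i * d i j = l * ε := fun j => by
    have h0 : Ideal.Quotient.mk J (∑ i, b i * d i j) = 0 := by simpa [hd] using hab j
    obtain ⟨l, hl⟩ := Ideal.mem_span_singleton'.1 (Ideal.Quotient.eq_zero_iff_mem.1 h0)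
    exact ⟨l, hl.symm⟩
  choose l hl using hlam
  have hni : ∀ i, ∃ e, n i = ∑ j, d i j • z j + ε • e := fun i => by
    have h0 : (Submodule.Quotient.mk (n i - ∑ j, d i j • z j) : M ⧸ (J • ⊤ : Submodule B M)) = 0 := by
      have := congrArg Subtype.val (hny i)
      rw [Submodule.coe_sum] at this
      change (Submodule.Quotient.mk (n i) : M ⧸ (J • ⊤ : Submodule B M)) = _ at this
      rw [← Submodule.mkQ_apply, map_sub, map_sum, Submodule.mkQ_apply, this, sub_eq_zero]
      refine Finset.sum_congr rfl fun j _ => ?_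
      show a i j • (y j).1 = _
      rw [← hz j, ← hd i j]
      rfl
    obtain ⟨e, he⟩ := exists_of_mem_span_smul ε ((Submodule.Quotient.mk_eq_zero _).1 h0)
    exact ⟨e, by rw [← he]; abel⟩
  choose e he using hni
  have hfin : ε • (x - ∑ j, l j • z j) = 0 := by
    rw [smul_sub, ← hsum, sub_eq_zero, Finset.smul_sum]
    calc ∑ i, b i • n i = ∑ i, ∑ j, (b i * d i j) • z j := by
          refine Finset.sum_congr rfl fun i _ => ?_
          rw [he i, smul_add, smul_smul, hm _ (hb i), zero_smul, add_zero, Finset.smul_sum]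
          simp only [smul_smul]
      _ = ∑ j, (∑ i, b i * d i j) • z j := by
          rw [Finset.sum_comm]; simp only [Finset.sum_smul]
      _ = ∑ j, ε • l j • z j := by
          simp only [hl, mul_comm _ ε, mul_smul]
  rw [← sub_add_cancel x (∑ j, l j • z j), add_comm]
  exact Submodule.add_mem_sup (Submodule.sum_mem _ fun j _ => Submodule.smul_mem _ _ (hzN j))
    (mem_of_smul_eq_zero ε hε hfin)

include hq in
/-- `N ∩ m M ⊆ εM + m N`. -/
theorem exists_of_mem_smul [Module.Flat B M] (hεm : ε ∈ maximalIdeal B) {x : M}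
    (hx : x ∈ LinearMap.ker q) (hxm : x ∈ (maximalIdeal B • ⊤ : Submodule B M)) :
    ∃ y, x - ε • y ∈ maximalIdeal B • LinearMap.ker q := by
  let J : Ideal B := Ideal.span {ε}
  let mA : Ideal (B ⧸ J) := (maximalIdeal B).map (Ideal.Quotient.mk J)
  let Kb : Submodule (B ⧸ J) (M ⧸ (J • ⊤ : Submodule B M)) := LinearMap.ker (qbar ε q)
  haveI : Module.Flat (B ⧸ J) ((M ⧸ (J • ⊤ : Submodule B M)) ⧸ LinearMap.range Kb.subtype) :=
    Module.Flat.of_linearEquiv ((Submodule.quotEquivOfEq _ _ (Submodule.range_subtype Kb)).trans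
      ((qbar ε q).quotKerEquivOfSurjective fun z => by
        obtain ⟨y, rfl⟩ := hq z; exact ⟨Submodule.Quotient.mk y, rfl⟩))
  have hxb : Kb.subtype ⟨Submodule.Quotient.mk x, LinearMap.mem_ker.2 (LinearMap.mem_ker.1 hx)⟩ ∈
      (mA • ⊤ : Submodule (B ⧸ J) (M ⧸ (J • ⊤ : Submodule B M))) := by
    show Submodule.Quotient.mk x ∈ _
    refine Submodule.smul_induction_on hxm (fun b hb y _ => ?_) (fun a b ha hb => ?_)
    · exact Submodule.smul_mem_smul (r := Ideal.Quotient.mk J b) (n := Submodule.Quotient.mk y)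
        (Ideal.mem_map_of_mem _ hb) Submodule.mem_top
    · exact Submodule.Quotient.mk_add (J • ⊤ : Submodule B M) ▸ add_mem ha hb
  have key := DeformLib.mem_smul_of_flat_coker Kb.subtype Subtype.val_injective mA hxb
  have step : ∀ w : Kb, w ∈ (mA • ⊤ : Submodule (B ⧸ J) Kb) →
      ∃ v ∈ maximalIdeal B • LinearMap.ker q, (w : M ⧸ (J • ⊤ : Submodule B M)) = Submodule.Quotient.mk v := by
    intro w hw
    refine Submodule.smul_induction_on hw (fun b hb y _ => ?_) (fun a b ha hb => ?_)
    · obtain ⟨b, hb', rfl⟩ := (Ideal.mem_map_iff_of_surjective _ Ideal.Quotient.mk_surjective).1 hb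
      obtain ⟨y', hy'⟩ := Submodule.Quotient.mk_surjective (J • ⊤ : Submodule B M) y.1
      refine ⟨b • y', Submodule.smul_mem_smul hb' ?_, ?_⟩
      · have := LinearMap.mem_ker.1 y.2
        rw [← hy'] at this
        exact this
      · show Ideal.Quotient.mk J b • (y : M ⧸ (J • ⊤ : Submodule B M)) = _
        rw [← hy']
        rfl
    · obtain ⟨v, hv, ev⟩ := ha
      obtain ⟨v', hv', ev'⟩ := hb
      exact ⟨v + v', add_mem hv hv', by rw [Submodule.coe_add, ev, ev', Submodule.Quotient.mk_add]⟩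
  obtain ⟨v, hv, ev⟩ := step _ key
  obtain ⟨y, hy⟩ := exists_of_mem_span_smul ε ((Submodule.Quotient.eq _).1 ev)
  exact ⟨y, by rwa [← hy, sub_sub_cancel]⟩

variable (N' : Submodule B M)

include hm hq in
/-- The criterion: `N'` is a flat lift of `N = ker q`. -/
theorem flat_of_lift [Module.Flat B M] (hεm : ε ∈ maximalIdeal B) (hnil : IsNilpotent (maximalIdeal B))
    (hsup : ∀ n ∈ LinearMap.ker q, ∃ y, n - ε • y ∈ N')
    (hle : N' ≤ LinearMap.ker q)
    (hcap : ∀ y, ε • y ∈ N' → y ∈ LinearMap.ker q ⊔ (maximalIdeal B • ⊤ : Submodule B M)) :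
    Module.Flat B (M ⧸ N') := by
  have hmN : maximalIdeal B • LinearMap.ker q ≤ maximalIdeal B • N' := by
    refine Submodule.smul_le.2 fun b hb n hn => ?_
    obtain ⟨y, hy⟩ := hsup n hn
    have := Submodule.smul_mem_smul hb hy
    rwa [smul_sub, smul_smul, hm b hb, zero_smul, sub_zero] at this
  have h : ∀ x : N', N'.subtype x ∈ (maximalIdeal B • ⊤ : Submodule B M) →
      x ∈ (maximalIdeal B • ⊤ : Submodule B N') := by
    intro x hx
    obtain ⟨y, hy⟩ := exists_of_mem_smul ε q hq hεm (hle x.2) hx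
    have hy' := hmN hy
    have hεy : ε • y ∈ N' := by
      have := sub_mem x.2 (Submodule.smul_le_right hy')
      rwa [sub_sub_cancel] at this
    obtain ⟨n, hn, w, hw, rfl⟩ := Submodule.mem_sup.1 (hcap y hεy)
    obtain ⟨y', hy''⟩ := hsup n hn
    have hεn : ε • (n + w) ∈ maximalIdeal B • N' := by
      rw [smul_add, smul_eq_zero_of_mem ε hm hw, add_zero]
      have := Submodule.smul_mem_smul hεm hy''
      rwa [smul_sub, smul_smul, hm ε hεm, zero_smul, sub_zero] at this
    have hxN : (x : M) ∈ maximalIdeal B • N' := by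
      have := add_mem hy' hεn
      rwa [sub_add_cancel] at this
    have e : Submodule.map N'.subtype (maximalIdeal B • ⊤ : Submodule B N') = maximalIdeal B • N' := by
      rw [Submodule.map_smul'', Submodule.map_top, Submodule.range_subtype]
    rw [← e] at hxN
    obtain ⟨x', hx', e'⟩ := hxN
    exact Subtype.val_injective e' ▸ hx'
  haveI := (DeformLib.injective_flat_of_nilpotent hnil N'.subtype h).2
  exact Module.Flat.of_linearEquiv (Submodule.quotEquivOfEq _ _ (Submodule.range_subtype N')).symm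

/-- A submodule with flat quotient meets `m M` in `m N'`. -/
theorem mem_smul_of_flat [Module.Flat B (M ⧸ N')] (I : Ideal B) {x : M} (hx : x ∈ N')
    (hxm : x ∈ (I • ⊤ : Submodule B M)) : x ∈ I • N' := by
  haveI : Module.Flat B (M ⧸ LinearMap.range N'.subtype) :=
    Module.Flat.of_linearEquiv (Submodule.quotEquivOfEq _ _ (Submodule.range_subtype N'))
  have key := DeformLib.mem_smul_of_flat_coker N'.subtype Subtype.val_injective I (x := ⟨x, hx⟩) hxm
  have := Submodule.mem_map_of_mem (f := N'.subtype) key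
  rwa [Submodule.map_smul'', Submodule.map_top, Submodule.range_subtype] at this

end Groth.Agent.HilbObsLib
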