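import Groth.Agent.HilbObsLib.Lift
import Groth.Agent.PullbackMod.Flat
import Groth.Prelude.Def_FlatMod2

/-!
# Schemes over the spectrum of a local Artinian ring
-/

set_option autoImplicit false
set_option backward.isDefEq.respectTransparency false
set_option linter.style.haveILetI false

universe u

open CategoryTheory CategoryTheory.Limits AlgebraicGeometry TopologicalSpace Opposite
open Groth.Agent.PullbackMod Groth.Agent.DCohLib IsLocalRing

noncomputable section

namespace Groth.Agent.HilbObsLib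

variable {B : Type u} [CommRing B] {Z : Scheme.{u}}

/-- Global sections of a scheme over `Spec B` as a `B`-algebra. -/
abbrev algOf (π : Z ⟶ Spec (CommRingCat.of B)) : Algebra B Γ(Z, ⊤) :=
  (π.appTop.hom.comp (Scheme.ΓSpecIso (CommRingCat.of B)).inv.hom).toAlgebra

theorem scal_eq (π : Z ⟶ Spec (CommRingCat.of B)) (z : Z) (b : B) :
    letI := algOf π
    scal z b = π.stalkMap z ((Spec (CommRingCat.of B)).presheaf.germ ⊤ (π z) trivial
      ((Scheme.ΓSpecIso (CommRingCat.of B)).inv b)) := by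
  letI := algOf π
  exact (Scheme.Hom.germ_stalkMap_apply π ⊤ z trivial _).symm

theorem germTop_bijective [IsLocalRing B] [IsArtinianRing B] (y : Spec (CommRingCat.of B)) :
    Function.Bijective fun b : B => (Spec (CommRingCat.of B)).presheaf.germ ⊤ y trivial
      ((Scheme.ΓSpecIso (CommRingCat.of B)).inv b) := by
  have hU := isAffineOpen_top (Spec (CommRingCat.of B))
  let e : B ≃+* Γ(Spec (CommRingCat.of B), ⊤) :=
    ((Scheme.ΓSpecIso (CommRingCat.of B)).symm.commRingCatIsoToRingEquiv)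
  haveI : IsLocalRing Γ(Spec (CommRingCat.of B), ⊤) := e.isLocalRing
  haveI : IsArtinianRing Γ(Spec (CommRingCat.of B), ⊤) := e.surjective.isArtinianRing
  letI := TopCat.Presheaf.algebra_section_stalk (Spec (CommRingCat.of B)).presheaf
    (U := ⊤) ⟨y, trivial⟩
  haveI := hU.isLocalization_stalk ⟨y, trivial⟩
  have hunit : ∀ a ∈ (hU.primeIdealOf ⟨y, trivial⟩).asIdeal.primeCompl, IsUnit a := fun a ha => by
    haveI : (hU.primeIdealOf ⟨y, trivial⟩).asIdeal.IsMaximal := IsArtinianRing.isMaximal_of_isPrime _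
    by_contra hu
    apply ha
    rw [SetLike.mem_coe, IsLocalRing.eq_maximalIdeal this]
    exact hu
  have hb : Function.Bijective (algebraMap Γ(Spec (CommRingCat.of B), ⊤)
      ((Spec (CommRingCat.of B)).presheaf.stalk y)) :=
    (IsLocalization.atUnits Γ(Spec (CommRingCat.of B), ⊤)
      (hU.primeIdealOf ⟨y, trivial⟩).asIdeal.primeCompl (fun a ha => hunit a ha)).bijective
  exact hb.comp e.bijective

/-- Flatness over an Artinian local base is flatness of stalks over the ring. -/
theorem flat_stalk_of_isFlatOverAt [IsLocalRing B] [IsArtinianRing B]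
    (π : Z ⟶ Spec (CommRingCat.of B)) (M : Z.Modules) (z : Z) (h : FlatMod.IsFlatOverAt π M z) :
    letI := algOf π
    Module.Flat B (M.presheaf.stalk z) := by
  letI := algOf π
  letI := FlatMod.moduleStalkOver π M z
  let φ : B →+* (Spec (CommRingCat.of B)).presheaf.stalk (π z) :=
    ((Spec (CommRingCat.of B)).presheaf.germ ⊤ (π z) trivial).hom.comp
      (Scheme.ΓSpecIso (CommRingCat.of B)).inv.hom
  letI := φ.toAlgebra
  haveI : IsScalarTower B ((Spec (CommRingCat.of B)).presheaf.stalk (π z)) (M.presheaf.stalk z) :=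
    .of_algebraMap_smul fun b m => by
      show π.stalkMap z (φ b) • m = scal z b • m
      rw [scal_eq]
      rfl
  haveI : Module.Flat ((Spec (CommRingCat.of B)).presheaf.stalk (π z)) (M.presheaf.stalk z) := h
  haveI : Module.Flat B ((Spec (CommRingCat.of B)).presheaf.stalk (π z)) :=
    Module.Flat.of_linearEquiv (LinearEquiv.ofBijective (Algebra.linearMap B _)
      (germTop_bijective (π z))).symm
  exact Module.Flat.trans B ((Spec (CommRingCat.of B)).presheaf.stalk (π z)) (M.presheaf.stalk z)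

/-- Conversely, flatness of stalks over the ring is flatness over the base. -/
theorem isFlatOverAt_of_flat_stalk [IsLocalRing B] [IsArtinianRing B]
    (π : Z ⟶ Spec (CommRingCat.of B)) (M : Z.Modules) (z : Z)
    (h : letI := algOf π; Module.Flat B (M.presheaf.stalk z)) : FlatMod.IsFlatOverAt π M z := by
  letI := algOf π
  haveI := h
  letI := FlatMod.moduleStalkOver π M z
  let φ : B →+* (Spec (CommRingCat.of B)).presheaf.stalk (π z) :=
    ((Spec (CommRingCat.of B)).presheaf.germ ⊤ (π z) trivial).hom.comp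
      (Scheme.ΓSpecIso (CommRingCat.of B)).inv.hom
  let e := RingEquiv.ofBijective φ (germTop_bijective (π z))
  letI := e.symm.toRingHom.toAlgebra
  haveI : IsScalarTower ((Spec (CommRingCat.of B)).presheaf.stalk (π z)) B (M.presheaf.stalk z) :=
    .of_algebraMap_smul fun r m => by
      show scal z (e.symm r) • m = π.stalkMap z r • m
      refine congrArg (· • m) ((scal_eq π z _).trans (congrArg _ ?_))
      exact e.apply_symm_apply r
  haveI : Module.Flat ((Spec (CommRingCat.of B)).presheaf.stalk (π z)) B :=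
    Module.Flat.of_linearEquiv (LinearEquiv.ofBijective (Algebra.linearMap _ B) e.symm.bijective).symm
  exact Module.Flat.trans ((Spec (CommRingCat.of B)).presheaf.stalk (π z)) B (M.presheaf.stalk z)

section thick

variable {A : Type u} [CommRing A] [IsLocalRing B] [IsArtinianRing B] [IsLocalRing A] [IsArtinianRing A]
  {Z' : Scheme.{u}} {i : Z' ⟶ Z} {π' : Z' ⟶ Spec (CommRingCat.of A)}
  {π : Z ⟶ Spec (CommRingCat.of B)} (p : B →+* A) (hp : Function.Surjective p)
  (hc : IsPullback i π' π (Spec.map (CommRingCat.ofHom p)))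

include hp hc in
/-- The base change of `Spec A ⊆ Spec B` is a thickening cut out by the kernel. -/
theorem thick_of_isPullback :
    letI := algOf π
    Thick i (RingHom.ker p) := by
  letI := algOf π
  haveI : IsClosedImmersion (Spec.map (CommRingCat.ofHom p)) :=
    IsClosedImmersion.spec_of_surjective _ hp
  haveI hci : IsClosedImmersion i := MorphismProperty.of_isPullback (P := @IsClosedImmersion) hc.flip ‹_›
  haveI : Surjective (Spec.map (CommRingCat.ofHom p)) := ⟨fun y => ⟨IsLocalRing.closedPoint A, by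
    haveI : Subsingleton (PrimeSpectrum B) := ⟨fun a b => PrimeSpectrum.ext (by
      rw [IsLocalRing.eq_maximalIdeal (IsArtinianRing.isMaximal_of_isPrime a.asIdeal),
        IsLocalRing.eq_maximalIdeal (IsArtinianRing.isMaximal_of_isPrime b.asIdeal)])⟩
    exact Subsingleton.elim (α := PrimeSpectrum B) _ _⟩⟩
  haveI : Surjective i := MorphismProperty.of_isPullback (P := @Surjective) hc.flip ‹_›
  have hnat : ∀ b, (Spec.map (CommRingCat.ofHom p)).appTop ((Scheme.ΓSpecIso (CommRingCat.of B)).inv b) =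
      (Scheme.ΓSpecIso (CommRingCat.of A)).inv (p b) := fun b =>
    (congr($(Scheme.ΓSpecIso_inv_naturality (CommRingCat.ofHom p)) b)).symm
  have hsq : ∀ b, i.appTop (algebraMap B Γ(Z, ⊤) b) =
      π'.appTop ((Scheme.ΓSpecIso (CommRingCat.of A)).inv (p b)) := fun b => by
    show (π.appTop ≫ i.appTop) ((Scheme.ΓSpecIso (CommRingCat.of B)).inv b) = _
    rw [← Scheme.Hom.comp_appTop, hc.w, Scheme.Hom.comp_appTop, CommRingCat.comp_apply, hnat]
  refine ⟨hci, i.surjective, fun w => ?_, fun w b hb => ?_⟩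
  · intro a ha
    obtain ⟨U₀, hU₀, s₀, rfl⟩ := TopCat.Presheaf.exists_germ_eq Z.presheaf a
    rw [RingHom.mem_ker] at ha
    have ha' : Z'.presheaf.germ (i ⁻¹ᵁ U₀) w hU₀ (i.app U₀ s₀) = 0 :=
      (Scheme.Hom.germ_stalkMap_apply i U₀ w hU₀ s₀).symm.trans ha
    obtain ⟨W, hW, l₁, l₂, hres⟩ := TopCat.Presheaf.germ_eq (U := i ⁻¹ᵁ U₀) (V := i ⁻¹ᵁ U₀) Z'.presheaf w hU₀ hU₀ (i.app U₀ s₀) 0
      (ha'.trans (map_zero _).symm)
    obtain ⟨W'', hW''o, hW''⟩ := i.isClosedEmbedding.isInducing.isOpen_iff.1 W.2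
    obtain ⟨_, ⟨V : Z.Opens, hV, rfl⟩, hwV, hVle⟩ :=
      Z.isBasis_affineOpens.exists_subset_of_mem_open (a := i w) (u := W'' ∩ U₀)
        ⟨(Set.ext_iff.1 hW'' w).2 hW, hU₀⟩ (hW''o.inter U₀.2)
    have hVU : V ≤ U₀ := fun y hy => (hVle hy).2
    have hVW : i ⁻¹ᵁ V ≤ W := fun y hy => (Set.ext_iff.1 hW'' y).1 (hVle hy).1
    let s := Z.presheaf.map (homOfLE hVU).op s₀
    have hs0 : i.appLE V (i ⁻¹ᵁ V ⊓ π' ⁻¹ᵁ ⊤) inf_le_left s = 0 := by
      rw [show i.appLE V _ inf_le_left s = i.appLE U₀ _ (inf_le_left.trans (i.preimage_mono hVU)) s₀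
        from congr($(Scheme.Hom.map_appLE i _ (homOfLE hVU).op) s₀)]
      have h := congrArg (Z'.presheaf.map (homOfLE (inf_le_left.trans hVW : i ⁻¹ᵁ V ⊓ π' ⁻¹ᵁ ⊤ ≤ W)).op) hres
      rw [map_zero, map_zero, ← CommRingCat.comp_apply, ← Functor.map_comp] at h
      exact h
    obtain ⟨hW', hpo⟩ := isPushout_appLE hc (V := ⊤) (W := V) (V' := ⊤) (isAffineOpen_top _) hV
      (isAffineOpen_top _) le_top le_top
    let W' := i ⁻¹ᵁ V ⊓ π' ⁻¹ᵁ ⊤
    let ΓB := Γ(Spec (CommRingCat.of B), ⊤)
    letI : Algebra ΓB Γ(Z, V) := (π.appLE ⊤ V le_top).hom.toAlgebra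
    letI : Algebra ΓB Γ(Spec (CommRingCat.of A), ⊤) :=
      ((Spec.map (CommRingCat.ofHom p)).appLE ⊤ ⊤ le_top).hom.toAlgebra
    letI : Algebra Γ(Z, V) Γ(Z', W') := (i.appLE V W' inf_le_left).hom.toAlgebra
    letI : Algebra Γ(Spec (CommRingCat.of A), ⊤) Γ(Z', W') :=
      (π'.appLE ⊤ W' inf_le_right).hom.toAlgebra
    letI : Algebra ΓB Γ(Z', W') :=
      ((i.appLE V W' inf_le_left).hom.comp (π.appLE ⊤ V le_top).hom).toAlgebra
    haveI : IsScalarTower ΓB Γ(Z, V) Γ(Z', W') := .of_algebraMap_eq fun _ => rfl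
    haveI : IsScalarTower ΓB Γ(Spec (CommRingCat.of A), ⊤) Γ(Z', W') :=
      .of_algebraMap_eq' (by
        show ((π.appLE ⊤ V le_top) ≫ i.appLE V W' inf_le_left).hom =
          (((Spec.map (CommRingCat.ofHom p)).appLE ⊤ ⊤ le_top) ≫ π'.appLE ⊤ W' inf_le_right).hom
        simp only [Scheme.Hom.appLE_comp_appLE, hc.w])
    have hsurj : Function.Surjective (algebraMap ΓB Γ(Spec (CommRingCat.of A), ⊤)) := fun y => by
      obtain ⟨b, hb⟩ := hp ((Scheme.ΓSpecIso (CommRingCat.of A)).hom y)
      refine ⟨(Scheme.ΓSpecIso (CommRingCat.of B)).inv b, ?_⟩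
      show (Spec.map (CommRingCat.ofHom p)).appLE ⊤ ((Spec.map (CommRingCat.ofHom p)) ⁻¹ᵁ ⊤) le_rfl _ = y
      rw [Scheme.Hom.appLE_eq_app]
      exact (hnat b).trans (by rw [hb]; exact Iso.hom_inv_id_apply _ y)
    have hk := ((baseChange_ker hsurj hpo.out).2 s).1 hs0
    rw [show Z.presheaf.germ U₀ (i w) hU₀ s₀ = Z.presheaf.germ V (i w) hwV s from
      (Z.presheaf.germ_res_apply (homOfLE hVU) (i w) hwV s₀).symm]
    refine Submodule.smul_induction_on hk (fun c hc' y _ => ?_) (fun y y' hy hy' => ?_)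
    · rw [Algebra.smul_def, map_mul]
      refine Ideal.mul_mem_right _ _ ?_
      let b := (Scheme.ΓSpecIso (CommRingCat.of B)).hom c
      have hb : p b = 0 := by
        have h0 : (Spec.map (CommRingCat.ofHom p)).appTop c = 0 := by
          rw [Scheme.Hom.appTop, ← Scheme.Hom.appLE_eq_app]
          exact hc'
        have := (hnat b).symm.trans ((congrArg _ (Iso.hom_inv_id_apply _ c)).trans h0)
        simpa using congrArg (Scheme.ΓSpecIso (CommRingCat.of A)).hom this
      have e : scal (i w) b = Z.presheaf.germ V (i w) hwV (π.appLE ⊤ V le_top c) := by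
        show Z.presheaf.germ ⊤ (i w) trivial (π.appTop ((Scheme.ΓSpecIso (CommRingCat.of B)).inv b)) = _
        rw [Iso.hom_inv_id_apply, Scheme.Hom.appLE, CommRingCat.comp_apply, Z.presheaf.germ_res_apply]
        rfl
      show Z.presheaf.germ V (i w) hwV (π.appLE ⊤ V le_top c) ∈ _
      rw [← e]
      exact Ideal.mem_map_of_mem _ hb
    · rw [map_add]; exact add_mem hy hy'
  · show i.stalkMap w (Z.presheaf.germ ⊤ (i w) trivial (algebraMap B Γ(Z, ⊤) b)) = 0
    rw [Scheme.Hom.germ_stalkMap_apply]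
    rw [show i.app ⊤ (algebraMap B Γ(Z, ⊤) b) = 0 from (hsq b).trans (by
      rw [RingHom.mem_ker.1 hb, map_zero, map_zero])]
    exact map_zero _

end thick

end Groth.Agent.HilbObsLib
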