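import Groth.Agent.HilbObsLib.Transfer
import Groth.Prelude.Def_FGA

/-!
# Functoriality of the pullback of submodules
-/

set_option autoImplicit false
set_option backward.isDefEq.respectTransparency false
set_option linter.style.haveILetI false

universe u

open CategoryTheory CategoryTheory.Limits AlgebraicGeometry TopologicalSpace Opposite

noncomputable section

namespace Groth.Agent.HilbObsLib

theorem iso_cancel {C : Type*} [Category C] {P Q R S T U : C} (p : P ⟶ Q) (p' : Q ⟶ P) (m : Q ⟶ R)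
    (m' : R ⟶ Q) (n : P ⟶ S) (o : S ⟶ T) (hp : p ≫ p' = 𝟙 P) (hm : m ≫ m' = 𝟙 Q) (e₀ : R = T)
    (key : m' ≫ p' ≫ n ≫ o = eqToHom e₀) (h1 : Q = Q) (h2 : R = U) (h3 : S = S) (h4 : T = U) :
    p ≫ eqToHom h1 ≫ m ≫ eqToHom h2 = n ≫ eqToHom h3 ≫ o ≫ eqToHom h4 := by
  subst h4 e₀
  simp only [eqToHom_refl, Category.id_comp, Category.comp_id] at key ⊢
  calc p ≫ m = p ≫ m ≫ (m' ≫ p' ≫ n ≫ o) := by rw [key, Category.comp_id]
    _ = n ≫ o := by rw [reassoc_of% hm, reassoc_of% hp]

theorem pullback_cocycle {W Z Y X : Scheme.{u}} (a : W ⟶ Z) (b : Z ⟶ Y) (c : Y ⟶ X) {c' : Z ⟶ X}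
    (h : b ≫ c = c') {d : W ⟶ X} (h' : a ≫ c' = d) {ab : W ⟶ Y} (hab : a ≫ b = ab)
    (h'' : ab ≫ c = d) (E : X.Modules) :
    (Scheme.Modules.pullback a).map
        (((Scheme.Modules.pullbackComp b c).app E ≪≫ (Scheme.Modules.pullbackCongr h).app E).hom) ≫
      ((Scheme.Modules.pullbackComp a c').app E ≪≫ (Scheme.Modules.pullbackCongr h').app E).hom =
    (Scheme.Modules.pullbackComp a b).hom.app ((Scheme.Modules.pullback c).obj E) ≫
      (Scheme.Modules.pullbackCongr hab).hom.app ((Scheme.Modules.pullback c).obj E) ≫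
      ((Scheme.Modules.pullbackComp ab c).app E ≪≫ (Scheme.Modules.pullbackCongr h'').app E).hom := by
  subst h h' hab
  have key := congr($(Scheme.Modules.pseudofunctor_associativity (f := a) (g := b) (h := c)).app E)
  simp only [NatTrans.comp_app, Functor.whiskerRight_app, Functor.whiskerLeft_app,
    Functor.associator_hom_app, Category.id_comp, eqToHom_app] at key
  have hc : ∀ {A B : Scheme.{u}} {u v : A ⟶ B} (e : u = v) (M : B.Modules),
      (Scheme.Modules.pullbackCongr e).hom.app M = eqToHom (by rw [e]) := fun e M => by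
    subst e; rfl
  simp only [Iso.trans_hom, Iso.app_hom, hc, Category.assoc, Functor.map_comp, eqToHom_map]
  exact iso_cancel _ _ _ _ _ _
    (by rw [← Functor.map_comp, Iso.hom_inv_id_app, CategoryTheory.Functor.map_id]; rfl)
    (Iso.hom_inv_id_app _ _) _ key _ _ _ _

theorem pullback_cocycle' {W Z Y X : Scheme.{u}} (a : W ⟶ Z) (b : Z ⟶ Y) (c : Y ⟶ X) {c' : Z ⟶ X}
    (h : b ≫ c = c') {d : W ⟶ X} (h' : a ≫ c' = d) {ab : W ⟶ Y} (hab : a ≫ b = ab)
    (h'' : ab ≫ c = d) (E : X.Modules) (EY : Y.Modules) (hY : EY = (Scheme.Modules.pullback c).obj E)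
    (EZ : Z.Modules) (hZ : EZ = (Scheme.Modules.pullback c').obj E)
    (EW : W.Modules) (hW : EW = (Scheme.Modules.pullback d).obj E)
    (eb : (Scheme.Modules.pullback b).obj EY ≅ EZ)
    (heb : HEq eb ((Scheme.Modules.pullbackComp b c).app E ≪≫ (Scheme.Modules.pullbackCongr h).app E))
    (ea : (Scheme.Modules.pullback a).obj EZ ≅ EW)
    (hea : HEq ea ((Scheme.Modules.pullbackComp a c').app E ≪≫ (Scheme.Modules.pullbackCongr h').app E))
    (eab : (Scheme.Modules.pullback ab).obj EY ≅ EW)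
    (heab : HEq eab ((Scheme.Modules.pullbackComp ab c).app E ≪≫ (Scheme.Modules.pullbackCongr h'').app E)) :
    (Scheme.Modules.pullback a).map eb.hom ≫ ea.hom =
      (Scheme.Modules.pullbackComp a b).hom.app EY ≫
      (Scheme.Modules.pullbackCongr hab).hom.app EY ≫ eab.hom := by
  subst hY hZ hW
  cases heb; cases hea; cases heab
  exact pullback_cocycle a b c h h' hab h'' E

variable {X S : Scheme.{u}} (f : X ⟶ S) (E : X.Modules)

theorem imageSubobject_of_epi {C : Type*} [Category C] [Abelian C] {M K L : C} (e : M ⟶ K) [Epi e]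
    (m : K ⟶ L) : imageSubobject (e ≫ m) = imageSubobject m :=
  (imageSubobject_epi_comp (e ≫ factorThruImage m) (image.ι m) _
    (by rw [Category.assoc, image.fac])).trans
    (imageSubobject_epi_comp (factorThruImage m) (image.ι m) m (image.fac m).symm).symm

theorem etiso_comp {T T' T'' : Over S} (g' : T'' ⟶ T') (g : T' ⟶ T)
    (hab : PicF.XTmap f g' ≫ PicF.XTmap f g = PicF.XTmap f (g' ≫ g)) :
    (Scheme.Modules.pullback (PicF.XTmap f g')).map (FGA.ETiso f E g).hom ≫ (FGA.ETiso f E g').hom =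
      (Scheme.Modules.pullbackComp (PicF.XTmap f g') (PicF.XTmap f g)).hom.app (FGA.ET f E T) ≫
        (Scheme.Modules.pullbackCongr hab).hom.app (FGA.ET f E T) ≫ (FGA.ETiso f E (g' ≫ g)).hom :=
  pullback_cocycle' (PicF.XTmap f g') (PicF.XTmap f g) (Limits.pullback.fst f T.hom)
    (FGA.XTmap_fst f g) (FGA.XTmap_fst f g') hab (FGA.XTmap_fst f (g' ≫ g)) E
    (FGA.ET f E T) rfl (FGA.ET f E T') rfl (FGA.ET f E T'') rfl
    (FGA.ETiso f E g) HEq.rfl (FGA.ETiso f E g') HEq.rfl (FGA.ETiso f E (g' ≫ g)) HEq.rfl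

/-- Pulling back a submodule twice is pulling it back along the composite. -/
theorem quotPull_comp {T T' T'' : Over S} (g' : T'' ⟶ T') (g : T' ⟶ T)
    (hab : PicF.XTmap f g' ≫ PicF.XTmap f g = PicF.XTmap f (g' ≫ g))
    (K : Subobject (FGA.ET f E T)) :
    FGA.quotPull f E g' (FGA.quotPull f E g K) = FGA.quotPull f E (g' ≫ g) K := by
  let F := (Scheme.Modules.pullback (PicF.XTmap f g)).map K.arrow ≫ (FGA.ETiso f E g).hom
  let ψ := Scheme.Modules.pullbackComp (PicF.XTmap f g') (PicF.XTmap f g) ≪≫ Scheme.Modules.pullbackCongr hab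
  have key : (Scheme.Modules.pullback (PicF.XTmap f g')).map (factorThruImageSubobject F) ≫
      ((Scheme.Modules.pullback (PicF.XTmap f g')).map (imageSubobject F).arrow ≫ (FGA.ETiso f E g').hom) =
      ψ.hom.app (K : (PicF.XT f T).Modules) ≫
        ((Scheme.Modules.pullback (PicF.XTmap f (g' ≫ g))).map K.arrow ≫ (FGA.ETiso f E (g' ≫ g)).hom) := by
    rw [← Category.assoc, ← Functor.map_comp, imageSubobject_arrow_comp, Functor.map_comp, Category.assoc,
      etiso_comp f E g' g hab, ← Category.assoc (ψ.hom.app _), ← NatTrans.naturality]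
    simp [ψ]
  calc FGA.quotPull f E g' (FGA.quotPull f E g K)
      = imageSubobject ((Scheme.Modules.pullback (PicF.XTmap f g')).map (factorThruImageSubobject F) ≫
          ((Scheme.Modules.pullback (PicF.XTmap f g')).map (imageSubobject F).arrow ≫
            (FGA.ETiso f E g').hom)) := (imageSubobject_of_epi _ _).symm
    _ = _ := by rw [key]; exact imageSubobject_of_epi _ _

end Groth.Agent.HilbObsLib
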