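import Groth.Agent.HilbObsLib.Ideal

/-!
# The local Hilbert functor through quotients of the structure sheaf
-/

set_option autoImplicit false
set_option backward.isDefEq.respectTransparency false
set_option linter.style.haveILetI false

universe u

open CategoryTheory CategoryTheory.Limits AlgebraicGeometry TopologicalSpace Opposite
open Groth.Agent.PullbackMod Groth.Agent.DCohLib IsLocalRing

noncomputable section

namespace Groth.Agent.HilbObsLib

variable {k : Type u} [Field k] {X : Scheme.{u}} (x : X ⟶ Spec (CommRingCat.of k)) [LocallyOfFiniteType x]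

omit [LocallyOfFiniteType x] in
theorem XAmap_eq {B A : ArtFun.Art k k} (g : B ⟶ A) : ArtFun.Art.XAmap x g = jm x g := rfl

omit [LocallyOfFiniteType x] in
theorem isPullback_XAincl (A : ArtFun.Art k k) :
    IsPullback (ArtFun.Art.XAincl x A) x (PicF.XTproj x (T A))
      (Spec.map (CommRingCat.ofHom A.res.toRingHom)) := by
  have hbase : ArtFun.Art.specRes A ≫ ArtFun.Art.specOver A = 𝟙 _ := by
    show ArtFun.Art.specRes A ≫ ArtFun.Art.specMap (ArtFun.Art.ofBase A) = _
    rw [ArtFun.Art.specRes_comp]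
    show Spec.map (CommRingCat.ofHom (RingHom.id k)) = _
    rw [CommRingCat.ofHom_id, Spec.map_id]
  refine IsPullback.of_right (h₁₂ := pullback.fst x (ArtFun.Art.specOver A)) (v₁₃ := x)
    (h₂₂ := ArtFun.Art.specOver A) ?_ (ArtFun.Art.XAincl_snd x A) (IsPullback.of_hasPullback x _)
  rw [ArtFun.Art.XAincl_fst]
  exact (hbase.symm ▸ IsPullback.of_horiz_isIso ⟨by simp⟩ :
    IsPullback (𝟙 X) x x (ArtFun.Art.specRes A ≫ ArtFun.Art.specOver A))

omit [LocallyOfFiniteType x] in
theorem thick_XAincl (B : ArtFun.Art k k) :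
    letI := algOf (PicF.XTproj x (T B))
    Thick (Z := Zs x B) (ArtFun.Art.XAincl x B) (maximalIdeal B) := by
  letI := algOf (PicF.XTproj x (T B))
  have h := thick_of_isPullback (Z := Zs x B) B.res.toRingHom B.res_surjective (isPullback_XAincl x B)
  have hk : RingHom.ker B.res.toRingHom = maximalIdeal B :=
    IsLocalRing.eq_maximalIdeal (RingHom.ker_isMaximal_of_surjective _ B.res_surjective)
  exact hk ▸ h

/-- The closed fibre `X`. -/
def hilbFibre : Fibre x where
  W := X
  ι A := ArtFun.Art.XAincl x A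
  comp g := (ArtFun.Art.XAincl_XAmap x g).symm.trans (by rw [XAmap_eq])
  thick B := by
    letI := algOf (PicF.XTproj x (T B))
    exact thick_XAincl x B
  noeth := LocallyOfFiniteType.isLocallyNoetherian x

/-- The trivialisation of the pulled back structure sheaf. -/
def vT (A : ArtFun.Art k k) :
    Coh.structureModule (Zs x A) ≅ FGA.ET x (Coh.structureModule X) (T A) :=
  (ProjCoh.pullUnit (pullback.fst x (T A).hom)).symm

omit [LocallyOfFiniteType x] in
theorem quotPull_idSub {B A : ArtFun.Art k k} (g : B ⟶ A) (hg : Function.Surjective g)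
    (I : (Zs x B).IdealSheafData) :
    FGA.quotPull x (Coh.structureModule X) (om g) (idSub (vT x B) I) = idSub (vT x A) (I.comap (jm x g)) := by
  letI := algOf (PicF.XTproj x (T B))
  haveI : IsClosedImmersion (jm x g) := (thick_jm x g hg).closedImm
  exact imageSubobject_pull_idSub (vT x B) (jm x g) (vT x A) (FGA.ETiso x (Coh.structureModule X) (om g)) I

/-- An element of the local Hilbert functor as a quotient of the structure sheaf. -/
def toQuot (A : ArtFun.Art k k) (I : (Zs x A).IdealSheafData) (hI : ArtFun.FlatOver X x A I) :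
    FGA.QuotSet x (Coh.structureModule X) (T A) :=
  ⟨idSub (vT x A) I, by
    obtain ⟨e⟩ := nonempty_cokernel_idSub (vT x A) I
    haveI := isLocallyNoetherian_Zs x A
    refine ⟨TildeOpenLib.isCoh_of_iso' e.symm
        (DevLib.isCoh_pushforward_closed I.subschemeι (DevLib.isCoh_structureModule _)), fun z => ?_⟩
    exact PullbackMod.isFlatOverAt_of_iso e.symm _ z ((isFlatOver_quotMod_iff _ I).2 hI z)⟩

theorem exists_toQuot (A : ArtFun.Art k k) (K : FGA.QuotSet x (Coh.structureModule X) (T A)) :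
    ∃ (I : (Zs x A).IdealSheafData) (hI : ArtFun.FlatOver X x A I), (toQuot x A I hI).1 = K.1 := by
  haveI := isLocallyNoetherian_Zs x A
  have hk := (QCohLib.isCoh_kernel_cokernel (cokernel.π K.1.arrow)
    (isCoh_ET x _ (DevLib.isCoh_structureModule X) A) K.2.1).1
  let e : (K.1 : (Zs x A).Modules) ≅ kernel (cokernel.π K.1.arrow) :=
    (Abelian.monoIsKernelOfCokernel (Cofork.ofπ (cokernel.π K.1.arrow) _)
      (cokernelIsCokernel K.1.arrow)).conePointUniqueUpToIso (limit.isLimit _)
  haveI : Coh.IsQCoh (K.1 : (Zs x A).Modules) := (TildeOpenLib.isCoh_of_iso' e.symm hk).1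
  obtain ⟨I, hI⟩ := exists_idSub (vT x A) K.1.arrow
  rw [Subobject.mk_arrow] at hI
  refine ⟨I, ?_, hI⟩
  obtain ⟨f⟩ := nonempty_cokernel_idSub (vT x A) I
  refine (isFlatOver_quotMod_iff (PicF.XTproj x (T A)) I).1 fun z =>
    PullbackMod.isFlatOverAt_of_iso f _ z ?_
  rw [hI]
  exact K.2.2 z

omit [LocallyOfFiniteType x] in
/-- The restriction to the closed fibre. -/
theorem exists_hilb_comparison {A : ArtFun.Art k k} (I : (Zs x A).IdealSheafData) (I₀ : X.IdealSheafData)
    (h : I.comap (ArtFun.Art.XAincl x A) = I₀) :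
    Nonempty (image ((Scheme.Modules.pullback (ArtFun.Art.XAincl x A)).map (idSub (vT x A) I).arrow) ≅
        ClSub.idealMod I₀) ∧
      Nonempty (cokernel ((Scheme.Modules.pullback (ArtFun.Art.XAincl x A)).map (idSub (vT x A) I).arrow) ≅
        ClSub.quotMod I₀) := by
  letI := algOf (PicF.XTproj x (T A))
  haveI : IsClosedImmersion (ArtFun.Art.XAincl x A) :=
    Thick.closedImm (Z := Zs x A) (thick_XAincl x A)
  let t : (Scheme.Modules.pullback (ArtFun.Art.XAincl x A)).obj (FGA.ET x (Coh.structureModule X) (T A)) ≅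
      Coh.structureModule X :=
    (Scheme.Modules.pullback (ArtFun.Art.XAincl x A)).mapIso (vT x A).symm ≪≫ ProjCoh.pullUnit _
  have e := imageSubobject_pull_idSub (vT x A) (ArtFun.Art.XAincl x A) (Iso.refl _) t I
  rw [h] at e
  let F := (Scheme.Modules.pullback (ArtFun.Art.XAincl x A)).map (idSub (vT x A) I).arrow ≫ t.hom
  have hF : (Scheme.Modules.pullback (ArtFun.Art.XAincl x A)).map (idSub (vT x A) I).arrow ≫ t.hom =
      (factorThruImageSubobject F ≫ (Subobject.isoOfEq _ _ e).hom) ≫ (idSub (Iso.refl _) I₀).arrow := by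
    rw [Category.assoc]
    simp [F]
  haveI : Mono (ClSub.idealModι I₀) := inferInstanceAs (Mono (kernel.ι _))
  obtain ⟨a⟩ := nonempty_image_iso t hF
  obtain ⟨b⟩ := nonempty_cokernel_iso t hF
  obtain ⟨c⟩ := nonempty_cokernel_idSub (Iso.refl (Coh.structureModule X)) I₀
  exact ⟨⟨a ≪≫ imageMonoIsoSource _ ≪≫ Subobject.underlyingIso _⟩, ⟨b ≪≫ c⟩⟩

/-- Smoothness of the local Hilbert functor. -/
theorem localHilb_smooth (I₀ : X.IdealSheafData) [HasExt.{u} X.Modules]
    (h : Subsingleton (Abelian.Ext.{u} (ClSub.idealMod I₀) (ClSub.quotMod I₀) 1)) :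
    ArtFun.IsSmoothFunctor (ArtFun.localHilb X x I₀) := by
  intro B A g hg I
  haveI : HasExt.{u} (hilbFibre x).W.Modules := ‹HasExt.{u} X.Modules›
  obtain ⟨⟨a⟩, ⟨b⟩⟩ := exists_hilb_comparison x I.1 I₀ I.2.2
  have hs : SplitAt (hilbFibre x) A (toQuot x A I.1 I.2.1).1.arrow := subsingleton_ext_iso a b 1 h
  obtain ⟨K', hK', -⟩ := exists_extension x _ (hilbFibre x) (DevLib.isCoh_structureModule X) g hg
    (toQuot x A I.1 I.2.1) hs
  obtain ⟨J, hJ, hJK⟩ := exists_toQuot x B K'
  have key : J.comap (jm x g) = I.1 := idSub_injective (vT x A) (by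
    rw [← quotPull_idSub x g hg]
    exact (congrArg (FGA.quotPull x _ (om g)) hJK).trans hK')
  refine ⟨⟨J, hJ, ?_⟩, Subtype.ext ?_⟩
  · rw [← ArtFun.Art.XAincl_XAmap x g, Scheme.IdealSheafData.comap_comp, XAmap_eq]
    rw [show J.comap (jm x g) = I.1 from key]
    exact I.2.2
  · exact key

/-- Uniqueness of lifts. -/
theorem localHilb_injective (I₀ : X.IdealSheafData)
    (h : Subsingleton (ClSub.idealMod I₀ ⟶ ClSub.quotMod I₀))
    {B A : ArtFun.Art k k} (g : B ⟶ A) (hg : Function.Surjective g) :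
    Function.Injective ((ArtFun.localHilb X x I₀).map g) := by
  intro J J' e
  have he : J.1.comap (jm x g) = J'.1.comap (jm x g) := congrArg Subtype.val e
  have hfib : (J.1.comap (jm x g)).comap (ArtFun.Art.XAincl x A) = I₀ := by
    rw [← Scheme.IdealSheafData.comap_comp, ← XAmap_eq, ArtFun.Art.XAincl_XAmap]
    exact J.2.2
  obtain ⟨⟨a⟩, ⟨b⟩⟩ := exists_hilb_comparison x _ I₀ hfib
  have hs : NoHomAt (hilbFibre x) A (idSub (vT x A) (J.1.comap (jm x g))).arrow :=
    subsingleton_hom_iso a b h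
  refine Subtype.ext (idSub_injective (vT x B) ?_)
  refine eq_of_quotPull_eq x _ g (hilbFibre x) (DevLib.isCoh_structureModule X) hg
    (toQuot x B J.1 J.2.1) (toQuot x B J'.1 J'.2.1) ?_ ?_
  · show FGA.quotPull x _ (om g) (idSub (vT x B) J.1) = FGA.quotPull x _ (om g) (idSub (vT x B) J'.1)
    rw [quotPull_idSub x g hg, quotPull_idSub x g hg, he]
  · have : FGA.quotPull x _ (om g) (toQuot x B J.1 J.2.1).1 = idSub (vT x A) (J.1.comap (jm x g)) :=
      quotPull_idSub x g hg _
    rw [this]
    exact hs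

end Groth.Agent.HilbObsLib
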