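import Groth.Agent.HilbObsLib.Quot
import Groth.Agent.HilbObsLib.Cocycle

/-!
# Extensions and uniqueness along arbitrary surjections
-/

set_option autoImplicit false
set_option backward.isDefEq.respectTransparency false
set_option linter.style.haveILetI false

universe u

open CategoryTheory CategoryTheory.Limits AlgebraicGeometry TopologicalSpace Opposite
open Groth.Agent.PullbackMod Groth.Agent.DCohLib IsLocalRing

noncomputable section

namespace Groth.Agent.HilbObsLib

variable {k : Type u} [Field k] {X : Scheme.{u}} (x : X ⟶ Spec (CommRingCat.of k)) (E : X.Modules)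
  [LocallyOfFiniteType x] (Φ : Fibre x)

theorem om_comp {C B A : ArtFun.Art k k} (p : C ⟶ B) (q : B ⟶ A) : om q ≫ om p = om (p ≫ q) := by
  ext : 1
  exact (ArtFun.Art.specMap_comp p q).symm

theorem quotPull_om_comp {C B A : ArtFun.Art k k} (p : C ⟶ B) (q : B ⟶ A)
    (K : Subobject (FGA.ET x E (T C))) :
    FGA.quotPull x E (om q) (FGA.quotPull x E (om p) K) = FGA.quotPull x E (om (p ≫ q)) K := by
  rw [quotPull_comp x E (om q) (om p) (xtmap_comp x _ _).symm, om_comp]

/-- A quotient extends along any surjection. -/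
theorem exists_extension [HasExt.{u} Φ.W.Modules] (hE : Coh.IsCoh E)
    {B A : ArtFun.Art k k} (g : B ⟶ A) (hg : Function.Surjective g) :
    ∀ K : FGA.QuotSet x E (T A), SplitAt Φ A K.1.arrow →
      ∃ K' : FGA.QuotSet x E (T B), FGA.quotPull x E (om g) K'.1 = K.1 ∧ SplitAt Φ B K'.1.arrow := by
  refine Groth.Agent.S12707.result (P := fun A B g => ∀ K : FGA.QuotSet x E (T A), SplitAt Φ A K.1.arrow →
      ∃ K' : FGA.QuotSet x E (T B), FGA.quotPull x E (om g) K'.1 = K.1 ∧ SplitAt Φ B K'.1.arrow)
    (fun A B g hiso K hK => ?_) (fun A B g hs K hK => exists_extension_small x E g Φ hE hs K hK)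
    (fun A B C p q hp hq K hK => ?_) g hg
  · letI := algOf (PicF.XTproj x (T B))
    have hbij : Function.Bijective g :=
      Function.bijective_iff_has_inverse.2 ⟨inv g, fun b => congr($(IsIso.hom_inv_id g) b),
        fun a => congr($(IsIso.inv_hom_id g) a)⟩
    have hker : RingHom.ker g.toAlgHom.toRingHom = Ideal.span {0} := by
      rw [Ideal.span_singleton_eq_bot.2 rfl]
      exact (RingHom.injective_iff_ker_eq_bot _).1 hbij.1
    haveI := isLocallyNoetherian_Zs x B
    haveI : IsClosedImmersion (jm x g) := (thick_jm x g hbij.2).closedImm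
    haveI := epi_qmap x E g hbij.2 K.1
    obtain ⟨e₀, hepi, he₀⟩ := exists_res x E g hbij.2 K.1
    haveI := hepi
    let q := qmap x E g K.1
    let e : cokernel (kernel.ι q) ≅ (Scheme.Modules.pushforward (jm x g)).obj (cokernel K.1.arrow) :=
      IsColimit.coconePointUniqueUpToIso (cokernelIsCokernel (kernel.ι q))
        (Abelian.epiIsCokernelOfKernel (Fork.ofι (kernel.ι q) _) (kernelIsKernel q))
    have hfl : FlatMod.IsFlatOver (PicF.XTproj x (T B))
        ((Scheme.Modules.pushforward (jm x g)).obj (cokernel K.1.arrow)) := by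
      refine isFlatOver_of_stalk x fun z => ?_
      obtain ⟨m, hst, hflat⟩ := flatQuot_push x g 0 hbij.2 hker _ K.2.2 z
      letI := m
      haveI := hst
      haveI := hflat
      haveI : Module.Flat B (B ⧸ Ideal.span {(0 : B)}) :=
        Module.Flat.of_linearEquiv (Submodule.quotEquivOfEqBot _ (Ideal.span_singleton_eq_bot.2 rfl))
      exact Module.Flat.trans B (B ⧸ Ideal.span {(0 : B)}) _
    refine ⟨⟨Subobject.mk (kernel.ι q), mk_mem_quotSet x E _
      (TildeOpenLib.isCoh_of_iso' e.symm (DevLib.isCoh_pushforward_closed (jm x g) K.2.1))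
      fun z => PullbackMod.isFlatOverAt_of_iso e.symm _ z (hfl z)⟩, quotPull_eq x E g K.1 _ e₀ he₀, ?_⟩
    exact hK.transfer Φ g ((Scheme.Modules.pullback (jm x g)).map (Subobject.underlyingIso (kernel.ι q)).hom ≫ e₀)
      (FGA.ETiso x E (om g)) (by
        rw [Category.assoc, ← he₀, ← Functor.map_comp_assoc, Subobject.underlyingIso_hom_comp_eq_mk])
  · obtain ⟨K', hK', hs'⟩ := hq K hK
    obtain ⟨K'', hK'', hs''⟩ := hp K' hs'
    exact ⟨K'', by rw [← quotPull_om_comp, hK'', hK'], hs''⟩

end Groth.Agent.HilbObsLib
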