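import Groth.Agent.HilbObsLib.Stalk

/-!
# Lifting flat quotients along a small extension
-/

set_option autoImplicit false
set_option backward.isDefEq.respectTransparency false
set_option linter.style.haveILetI false

universe u

open CategoryTheory CategoryTheory.Limits AlgebraicGeometry TopologicalSpace Opposite
open Groth.Agent.PullbackMod Groth.Agent.DCohLib IsLocalRing

noncomputable section

namespace Groth.Agent.HilbObsLib

variable {B : Type u} [CommRing B] {Z Z₀ : Scheme.{u}} [Algebra B Γ(Z, ⊤)]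

/-- The stalks of `Q` are flat modules over `B ⧸ J`. -/
def FlatQuot (J : Ideal B) (Q : Z.Modules) : Prop :=
  ∀ z : Z, ∃ m : Module (B ⧸ J) (Q.presheaf.stalk z), letI := m
    IsScalarTower B (B ⧸ J) (Q.presheaf.stalk z) ∧ Module.Flat (B ⧸ J) (Q.presheaf.stalk z)

theorem pushStalk_map (i : Z₀ ⟶ Z) {M N : Z₀.Modules} (f : M ⟶ N) (w : Z₀)
    (z : ((Scheme.Modules.pushforward i).obj M).presheaf.stalk (i w)) :
    pushStalk i N w (stalkLin ((Scheme.Modules.pushforward i).map f) (i w) z) =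
      stalkLin f w (pushStalk i M w z) := by
  obtain ⟨U, hU, z, rfl⟩ := TopCat.Presheaf.exists_germ_eq ((Scheme.Modules.pushforward i).obj M).presheaf z
  exact ((congrArg _ (stalkLin_germ _ (i w) hU z)).trans (pushStalk_germ i N w hU _)).trans
    ((stalkLin_germ f w hU z).symm.trans (congrArg _ (pushStalk_germ i M w hU z).symm))

variable [IsLocalRing B] (ε : B)

theorem stalk_smul_eq_zero {Q : Z.Modules} (hQ : FlatQuot (Ideal.span {ε}) Q) (z : Z)
    (x : Q.presheaf.stalk z) : ε • x = 0 := by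
  obtain ⟨m, h1, -⟩ := hQ z
  letI := m
  haveI := h1
  exact smul_quot ε x

variable {E Q : Z.Modules} (q : E ⟶ Q)

theorem smulB_comp (hQ : FlatQuot (Ideal.span {ε}) Q) : smulB E ε ≫ q = 0 := by
  refine (eq_zero_iff_stalk _).2 fun z => LinearMap.ext fun x => ?_
  rw [stalkLin_comp, LinearMap.comp_apply, stalkLin_smulB]
  exact (map_smul (stalkB q z) ε x).trans (stalk_smul_eq_zero ε hQ z _)

/-- Multiplication by `ε`, into the kernel of `q`. -/
def el (hQ : FlatQuot (Ideal.span {ε}) Q) : E ⟶ kernel q :=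
  kernel.lift q (smulB E ε) (smulB_comp ε q hQ)

theorem ι_el (hQ : FlatQuot (Ideal.span {ε}) Q) (z : Z) (x : E.presheaf.stalk z) :
    stalkB (B := B) (kernel.ι q) z (stalkLin (el ε q hQ) z x) = ε • x := by
  rw [stalkB_apply, ← LinearMap.comp_apply, ← stalkLin_comp, el, kernel.lift_ι, stalkLin_smulB]

theorem el_smul (hQ : FlatQuot (Ideal.span {ε}) Q) (z : Z) (n : (kernel q).presheaf.stalk z) :
    stalkLin (el ε q hQ) z (stalkLin (kernel.ι q) z n) = ε • n :=
  stalk_kernel_ι_inj q z ((ι_el ε q hQ z _).trans (map_smul (stalkB (kernel.ι q) z) ε n).symm)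

variable {i : Z₀ ⟶ Z} (hi : Thick i (maximalIdeal B))

include hi in
theorem mem_smul_ker_iff (w : Z₀) (n : (kernel q).presheaf.stalk (i w)) :
    pullStalk i (kernel q) w n = 0 ↔
      stalkB (B := B) (kernel.ι q) (i w) n ∈ maximalIdeal B • LinearMap.ker (stalkB (B := B) q (i w)) := by
  rw [pullStalk_eq_zero_iff hi, ← range_stalkB_kernel, ← Submodule.map_top, ← Submodule.map_smul'']
  refine ⟨fun h => ⟨n, h, rfl⟩, ?_⟩
  rintro ⟨n', h', e⟩
  rwa [← stalk_kernel_ι_inj q (i w) e]

variable (hm : ∀ b ∈ maximalIdeal B, b * ε = 0) (hε : ε ≠ 0) (hεm : ε ∈ maximalIdeal B)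
  (hE : ∀ z : Z, Module.Flat B (E.presheaf.stalk z))

/-- The restriction of the inclusion of `ker q`. -/
abbrev resι (i : Z₀ ⟶ Z) : (Scheme.Modules.pullback i).obj (kernel q) ⟶ (Scheme.Modules.pullback i).obj E :=
  (Scheme.Modules.pullback i).map (kernel.ι q)

include hi hεm in
theorem resι_el_zero (hQ : FlatQuot (Ideal.span {ε}) Q) :
    resι q i ≫ (Scheme.Modules.pullback i).map (el ε q hQ) = 0 := by
  rw [← Functor.map_comp]
  refine (eq_zero_iff_stalk _).2 fun w => LinearMap.ext fun y => ?_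
  obtain ⟨n, rfl⟩ := pullStalk_surjective hi _ w y
  refine (pullStalk_natural i _ w n).trans ?_
  rw [stalkLin_comp, LinearMap.comp_apply, el_smul, pullStalk_smul_eq_zero hi _ w hεm]
  rfl

include hi hεm in
theorem el_resι_zero (hQ : FlatQuot (Ideal.span {ε}) Q) :
    (Scheme.Modules.pullback i).map (el ε q hQ) ≫ resι q i = 0 := by
  rw [← Functor.map_comp, el, kernel.lift_ι]
  exact pullback_map_smulB hi E hεm

/-- The extension of `K₀` by `Q₀` given by restricting `ker q`. -/
@[simps]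
def obsSeq (hQ : FlatQuot (Ideal.span {ε}) Q) (h1 : resι q i ≫ (Scheme.Modules.pullback i).map (el ε q hQ) = 0)
    (h2 : (Scheme.Modules.pullback i).map (el ε q hQ) ≫ resι q i = 0) : ShortComplex Z₀.Modules :=
  ShortComplex.mk (cokernel.desc (resι q i) ((Scheme.Modules.pullback i).map (el ε q hQ)) h1)
    (factorThruImage (resι q i)) (by
      rw [← cancel_epi (cokernel.π (resι q i)), ← cancel_mono (image.ι (resι q i)), cokernel.π_desc_assoc,
        Category.assoc, image.fac, h2, comp_zero, zero_comp])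

include hi hm hε hεm hE in
theorem obsSeq_shortExact [Epi q] (hQ : FlatQuot (Ideal.span {ε}) Q)
    (h1 : resι q i ≫ (Scheme.Modules.pullback i).map (el ε q hQ) = 0)
    (h2 : (Scheme.Modules.pullback i).map (el ε q hQ) ≫ resι q i = 0) :
    (obsSeq ε q hQ h1 h2).ShortExact := by
  have hπ : ∀ (w : Z₀) (x : E.presheaf.stalk (i w)),
      stalkLin (cokernel.desc (resι q i) ((Scheme.Modules.pullback i).map (el ε q hQ)) h1) w
        (stalkLin (cokernel.π (resι q i)) w (pullStalk i E w x)) =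
      pullStalk i (kernel q) w (stalkLin (el ε q hQ) (i w) x) := fun w x => by
    rw [← LinearMap.comp_apply, ← stalkLin_comp, cokernel.π_desc]
    exact pullStalk_natural i _ w x
  haveI : Mono (obsSeq ε q hQ h1 h2).f := by
    refine (mono_iff_stalk _).2 fun w => (injective_iff_map_eq_zero _).2 fun y hy => ?_
    obtain ⟨y', rfl⟩ := (epi_iff_stalk (cokernel.π (resι q i))).1 inferInstance w y
    obtain ⟨x, rfl⟩ := pullStalk_surjective hi E w y'
    have h0 := (mem_smul_ker_iff q hi w _).1 ((hπ w x).symm.trans hy)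
    rw [ι_el] at h0
    obtain ⟨m, hflat, hfl⟩ := hQ (i w)
    letI := m
    haveI := hflat
    haveI := hfl
    haveI := hE (i w)
    obtain ⟨n, hn, v, hv, rfl⟩ := Submodule.mem_sup.1
      (mem_of_smul_mem ε hm hε (stalkB (B := B) q (i w)) ((epi_iff_stalk q).1 inferInstance (i w)) h0)
    obtain ⟨n₀, rfl⟩ := stalk_kernel_ι_exists q (i w) hn
    rw [map_add, (pullStalk_eq_zero_iff hi E w v).2 hv, add_zero, ← pullStalk_natural i (kernel.ι q) w n₀,
      ← LinearMap.comp_apply, ← stalkLin_comp, cokernel.condition, DevLib.stalkLin_zero]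
    rfl
  haveI : Epi (obsSeq ε q hQ h1 h2).g := inferInstanceAs (Epi (factorThruImage (resι q i)))
  refine ShortComplex.ShortExact.mk' (exact_of_stalk fun w y hy => ?_) inferInstance inferInstance
  obtain ⟨n, rfl⟩ := pullStalk_surjective hi (kernel q) w y
  have hn : pullStalk i E w (stalkLin (kernel.ι q) (i w) n) = 0 := by
    rw [← pullStalk_natural i (kernel.ι q) w n]
    show stalkLin (resι q i) w _ = 0
    rw [← image.fac (resι q i), stalkLin_comp, LinearMap.comp_apply]
    exact (congrArg _ hy).trans (map_zero _)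
  obtain ⟨m, hflat, hfl⟩ := hQ (i w)
  letI := m
  haveI := hflat
  haveI := hfl
  haveI := hE (i w)
  obtain ⟨x, hx⟩ := exists_of_mem_smul ε (stalkB (B := B) q (i w)) ((epi_iff_stalk q).1 inferInstance (i w))
    hεm (stalk_kernel_ι_comp q (i w) n) ((pullStalk_eq_zero_iff hi E w _).1 hn)
  refine ⟨stalkLin (cokernel.π (resι q i)) w (pullStalk i E w x), (hπ w x).trans ?_⟩
  rw [← sub_eq_zero, ← map_sub, mem_smul_ker_iff q hi, map_sub, ι_el,
    ← neg_sub, Submodule.neg_mem_iff]
  exact hx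

include hi hm hε hεm hE in
/-- A flat lift exists if every extension of `K₀` by `Q₀` splits. -/
theorem exists_lift [Epi q] (hQ : FlatQuot (Ideal.span {ε}) Q) (hnil : IsNilpotent (maximalIdeal B))
    [HasExt.{u} Z₀.Modules]
    (hext : Subsingleton (Abelian.Ext.{u} (image (resι q i)) (cokernel (resι q i)) 1)) :
    ∃ (Q₀ : Z₀.Modules) (ρ : kernel q ⟶ (Scheme.Modules.pushforward i).obj Q₀),
      Q₀ = cokernel (resι q i) ∧
      (∀ z, Module.Flat B ((cokernel (kernel.ι ρ ≫ kernel.ι q)).presheaf.stalk z)) ∧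
      (∀ (z : Z) (n : (kernel q).presheaf.stalk z), ∃ y, ∃ n' : (kernel ρ).presheaf.stalk z,
        stalkLin (kernel.ι ρ) z n' = n - stalkLin (el ε q hQ) z y) := by
  have h1 := resι_el_zero ε q hi hεm hQ
  have h2 := el_resι_zero ε q hi hεm hQ
  have hS := obsSeq_shortExact ε q hi hm hε hεm hE hQ h1 h2
  obtain ⟨r', hr'⟩ := Abelian.Ext.contravariant_sequence_exact₁ hS (cokernel (resι q i))
    (Abelian.Ext.mk₀ (𝟙 _)) (add_zero 1) (hext.elim _ _)
  obtain ⟨r₁, rfl⟩ := (Abelian.Ext.mk₀_bijective _ _).2 r'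
  rw [Abelian.Ext.mk₀_comp_mk₀] at hr'
  let r : (Scheme.Modules.pullback i).obj (kernel q) ⟶ cokernel (resι q i) := r₁
  have hr : cokernel.desc (resι q i) ((Scheme.Modules.pullback i).map (el ε q hQ)) h1 ≫ r = 𝟙 _ :=
    (Abelian.Ext.mk₀_bijective _ _).1 hr'
  let ρ : kernel q ⟶ (Scheme.Modules.pushforward i).obj (cokernel (resι q i)) :=
    (Scheme.Modules.pullbackPushforwardAdjunction i).unit.app (kernel q) ≫
      (Scheme.Modules.pushforward i).map r
  haveI := hi.closedImm
  have hρ : ∀ (w : Z₀) (n : (kernel q).presheaf.stalk (i w)),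
      pushStalk i _ w (stalkLin ρ (i w) n) = stalkLin r w (pullStalk i (kernel q) w n) := fun w n => by
    rw [stalkLin_comp, LinearMap.comp_apply]
    exact (pushStalk_map i r w _).trans (congrArg _ (unit_stalk_pushStalk i _ w n))
  have hρel : ∀ (w : Z₀) (x : E.presheaf.stalk (i w)),
      pushStalk i _ w (stalkLin ρ (i w) (stalkLin (el ε q hQ) (i w) x)) =
        stalkLin (cokernel.π (resι q i)) w (pullStalk i E w x) := fun w x => by
    rw [hρ, ← pullStalk_natural i (el ε q hQ) w x, ← LinearMap.comp_apply, ← stalkLin_comp]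
    congr 2
    rw [← cokernel.π_desc (resι q i) _ h1, Category.assoc]
    exact (congrArg _ hr).trans (Category.comp_id _)
  have hsup : ∀ (z : Z) (n : (kernel q).presheaf.stalk z), ∃ y, ∃ n' : (kernel ρ).presheaf.stalk z,
      stalkLin (kernel.ι ρ) z n' = n - stalkLin (el ε q hQ) z y := fun z n => by
    obtain ⟨w, rfl⟩ := hi.surj z
    obtain ⟨x', hx'⟩ := (epi_iff_stalk (cokernel.π (resι q i))).1 inferInstance w
      (pushStalk i _ w (stalkLin ρ (i w) n))
    obtain ⟨x, rfl⟩ := pullStalk_surjective hi E w x'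
    refine ⟨x, stalk_kernel_ι_exists ρ (i w) ((bijective_pushStalk i _ w).1 ?_)⟩
    rw [map_sub, map_sub, map_zero, hρel, hx', sub_self]
  refine ⟨_, ρ, rfl, fun z => ?_, hsup⟩
  let κ := kernel.ι ρ ≫ kernel.ι q
  have hT : (ShortComplex.mk κ (cokernel.π κ) (cokernel.condition _)).ShortExact :=
    ShortComplex.ShortExact.mk' (ShortComplex.exact_of_g_is_cokernel _ (cokernelIsCokernel _))
      inferInstance inferInstance
  obtain ⟨w, rfl⟩ := hi.surj z
  obtain ⟨m, hflat, hfl⟩ := hQ (i w)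
  letI := m
  haveI := hflat
  haveI := hfl
  haveI := hE (i w)
  let N' : Submodule B (E.presheaf.stalk (i w)) := LinearMap.range (stalkB κ (i w))
  have hN' : ∀ n', stalkB (B := B) κ (i w) n' =
      stalkLin (kernel.ι q) (i w) (stalkLin (kernel.ι ρ) (i w) n') := fun n' => by
    rw [stalkB_apply, stalkLin_comp]; rfl
  have hfl' : Module.Flat B (E.presheaf.stalk (i w) ⧸ N') := by
    refine flat_of_lift ε hm (stalkB (B := B) q (i w)) ((epi_iff_stalk q).1 inferInstance (i w)) N'
      hεm hnil (fun n hn => ?_) ?_ fun y hy => ?_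
    · obtain ⟨n₀, rfl⟩ := stalk_kernel_ι_exists q (i w) hn
      obtain ⟨y, n', hn'⟩ := hsup (i w) n₀
      exact ⟨y, n', by rw [hN', hn', map_sub, ← stalkB_apply (B := B), ← stalkB_apply (B := B), ι_el]⟩
    · rintro _ ⟨n', rfl⟩
      rw [hN']
      exact stalk_kernel_ι_comp q (i w) _
    · obtain ⟨n', hn'⟩ := hy
      rw [hN', ← ι_el ε q hQ] at hn'
      have h0 : stalkLin (cokernel.π (resι q i)) w (pullStalk i E w y) = 0 := by
        rw [← hρel w y, ← stalk_kernel_ι_inj q (i w) hn', stalk_kernel_ι_comp, map_zero]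
      have hS' : (ShortComplex.mk (kernel.ι (cokernel.π (resι q i))) (cokernel.π (resι q i))
          (kernel.condition _)).ShortExact :=
        ShortComplex.ShortExact.mk' (ShortComplex.exact_of_f_is_kernel _ (kernelIsKernel _))
          inferInstance inferInstance
      obtain ⟨v, hv⟩ := (DevLib.stalk_exact hS' w _).1 h0
      obtain ⟨v', rfl⟩ := (epi_iff_stalk (Abelian.factorThruImage (resι q i))).1 inferInstance w v
      obtain ⟨n, rfl⟩ := pullStalk_surjective hi (kernel q) w v'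
      dsimp only at hv
      rw [← LinearMap.comp_apply, ← stalkLin_comp] at hv
      erw [Abelian.image.fac, pullStalk_natural] at hv
      rw [← sub_add_cancel y (stalkLin (kernel.ι q) (i w) n), add_comm]
      refine Submodule.add_mem_sup (stalk_kernel_ι_comp q (i w) n) ((pullStalk_eq_zero_iff hi E w _).1 ?_)
      rw [map_sub, ← hv, sub_self]
  have hex : LinearMap.ker (stalkB (B := B) (cokernel.π κ) (i w)) = N' := by
    ext x
    exact DevLib.stalk_exact hT (i w) x
  exact Module.Flat.of_linearEquiv (((Submodule.quotEquivOfEq _ _ hex).symm.trans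
    ((stalkB (B := B) (cokernel.π κ) (i w)).quotKerEquivOfSurjective
      ((epi_iff_stalk (cokernel.π κ)).1 inferInstance (i w)))).symm)

/-- `κ` is a flat lift of `ker q`, stalkwise. -/
structure IsLift (hQ : FlatQuot (Ideal.span {ε}) Q) {K' : Z.Modules} (κ : K' ⟶ E) : Prop where
  mono : Mono κ
  comp : κ ≫ q = 0
  flat : ∀ z, Module.Flat B (E.presheaf.stalk z ⧸ LinearMap.range (stalkB (B := B) κ z))
  sup : ∀ (z : Z) (n : (kernel q).presheaf.stalk z), ∃ y, ∃ n' : K'.presheaf.stalk z,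
    stalkLin κ z n' = stalkLin (kernel.ι q) z n - ε • y

variable {hQ : FlatQuot (Ideal.span {ε}) Q}

theorem IsLift.stalk_lift {K' : Z.Modules} {κ : K' ⟶ E} (h : IsLift ε q hQ κ) (z : Z)
    (n : K'.presheaf.stalk z) :
    stalkB (B := B) (kernel.ι q) z (stalkLin (kernel.lift q κ h.comp) z n) = stalkLin κ z n := by
  rw [stalkB_apply, ← LinearMap.comp_apply, ← stalkLin_comp, kernel.lift_ι]

include hi hεm in
theorem IsLift.isIso {K' : Z.Modules} {κ : K' ⟶ E} (h : IsLift ε q hQ κ) :
    IsIso ((Scheme.Modules.pullback i).map (kernel.lift q κ h.comp) ≫ factorThruImage (resι q i)) := by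
  refine (isIso_iff_stalk _).2 fun w => ⟨(injective_iff_map_eq_zero _).2 fun y hy => ?_, fun y => ?_⟩
  · obtain ⟨n, rfl⟩ := pullStalk_surjective hi K' w y
    have h0 : pullStalk i E w (stalkLin κ (i w) n) = 0 := by
      rw [← pullStalk_natural i κ w n]
      have e : (Scheme.Modules.pullback i).map κ = ((Scheme.Modules.pullback i).map
          (kernel.lift q κ h.comp) ≫ factorThruImage (resι q i)) ≫ image.ι (resι q i) := by
        rw [Category.assoc, image.fac, resι, ← Functor.map_comp, kernel.lift_ι]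
      rw [e, stalkLin_comp, LinearMap.comp_apply, hy, map_zero]
    haveI := h.flat (i w)
    have h1 := mem_smul_of_flat (LinearMap.range (stalkB (B := B) κ (i w))) (maximalIdeal B)
      ⟨n, rfl⟩ ((pullStalk_eq_zero_iff hi E w _).1 h0)
    rw [← Submodule.map_top, ← Submodule.map_smul''] at h1
    obtain ⟨n', hn', e'⟩ := h1
    haveI := h.mono
    rw [(mono_iff_stalk κ).1 h.mono (i w) e'] at hn'
    exact (pullStalk_eq_zero_iff hi K' w n).2 hn'
  · obtain ⟨y', rfl⟩ := (epi_iff_stalk (factorThruImage (resι q i))).1 inferInstance w y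
    obtain ⟨n, rfl⟩ := pullStalk_surjective hi (kernel q) w y'
    obtain ⟨x, n', hn'⟩ := h.sup (i w) n
    refine ⟨pullStalk i K' w n', (mono_iff_stalk (image.ι (resι q i))).1 inferInstance w ?_⟩
    rw [← LinearMap.comp_apply, ← stalkLin_comp, ← LinearMap.comp_apply, ← stalkLin_comp,
      Category.assoc, image.fac, resι, ← Functor.map_comp, kernel.lift_ι, pullStalk_natural,
      pullStalk_natural, hn', map_sub, pullStalk_smul_eq_zero hi E w hεm, sub_zero]

include hi hm hε hεm hE in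
/-- Flat lifts are unique if `Hom(K₀, Q₀) = 0`. -/
theorem IsLift.range_le [Epi q] (hhom : Subsingleton (image (resι q i) ⟶ cokernel (resι q i)))
    {K₁ K₂ : Z.Modules} {κ₁ : K₁ ⟶ E} {κ₂ : K₂ ⟶ E} (h₁ : IsLift ε q hQ κ₁) (h₂ : IsLift ε q hQ κ₂)
    (z : Z) (n₁ : K₁.presheaf.stalk z) : ∃ n₂, stalkLin κ₂ z n₂ = stalkLin κ₁ z n₁ := by
  obtain ⟨w, rfl⟩ := hi.surj z
  have h1 := resι_el_zero ε q hi hεm hQ
  have h2 := el_resι_zero ε q hi hεm hQ
  have hS := obsSeq_shortExact ε q hi hm hε hεm hE hQ h1 h2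
  let g := factorThruImage (resι q i)
  let a₁ := (Scheme.Modules.pullback i).map (kernel.lift q κ₁ h₁.comp)
  let a₂ := (Scheme.Modules.pullback i).map (kernel.lift q κ₂ h₂.comp)
  haveI : IsIso (a₁ ≫ g) := h₁.isIso ε q hi hεm
  haveI : IsIso (a₂ ≫ g) := h₂.isIso ε q hi hεm
  have hd : (inv (a₁ ≫ g) ≫ a₁ - inv (a₂ ≫ g) ≫ a₂) ≫ g = 0 := by
    rw [Preadditive.sub_comp, Category.assoc, Category.assoc, IsIso.inv_hom_id, IsIso.inv_hom_id,
      sub_self]
  obtain ⟨t, ht⟩ := KernelFork.IsLimit.lift' hS.fIsKernel _ hd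
  have ht0 : t = 0 := hhom.elim _ _
  have heq : a₁ = ((a₁ ≫ g) ≫ inv (a₂ ≫ g)) ≫ a₂ := by
    have e : inv (a₁ ≫ g) ≫ a₁ = inv (a₂ ≫ g) ≫ a₂ :=
      sub_eq_zero.1 (ht.symm.trans (by rw [ht0]; exact zero_comp))
    rw [Category.assoc, ← e, ← Category.assoc, IsIso.hom_inv_id, Category.id_comp]
  obtain ⟨n₂, hn₂⟩ := pullStalk_surjective hi K₂ w
    (stalkLin ((a₁ ≫ g) ≫ inv (a₂ ≫ g)) w (pullStalk i K₁ w n₁))
  have key : pullStalk i (kernel q) w (stalkLin (kernel.lift q κ₁ h₁.comp) (i w) n₁ -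
      stalkLin (kernel.lift q κ₂ h₂.comp) (i w) n₂) = 0 := by
    rw [map_sub, ← pullStalk_natural, ← pullStalk_natural, hn₂, sub_eq_zero]
    show stalkLin a₁ w _ = stalkLin a₂ w _
    conv_lhs => rw [heq, stalkLin_comp, LinearMap.comp_apply]
  rw [mem_smul_ker_iff q hi, map_sub, h₁.stalk_lift, h₂.stalk_lift] at key
  have hle : maximalIdeal B • LinearMap.ker (stalkB (B := B) q (i w)) ≤
      LinearMap.range (stalkB (B := B) κ₂ (i w)) := by
    refine Submodule.smul_le.2 fun b hb n hn => ?_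
    obtain ⟨n₀, rfl⟩ := stalk_kernel_ι_exists q (i w) hn
    obtain ⟨y, n', hn'⟩ := h₂.sup (i w) n₀
    refine ⟨b • n', ?_⟩
    rw [map_smul, stalkB_apply, hn', smul_sub, smul_smul, hm b hb, zero_smul, sub_zero]
  obtain ⟨m₂, hm₂⟩ := hle key
  exact ⟨m₂ + n₂, by rw [map_add, ← stalkB_apply (B := B), hm₂, sub_add_cancel]⟩

end Groth.Agent.HilbObsLib
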