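import Mathlib

/-!
# Images and cokernels of equivalent arrows
-/

set_option autoImplicit false

universe w v u

open CategoryTheory CategoryTheory.Limits

noncomputable section

namespace Groth.Agent.HilbObsLib

variable {C : Type u} [Category.{v} C] [Abelian C]

variable {K L K' L' : C} {a : K ⟶ L} {a' : K' ⟶ L'} {e : K ⟶ K'} [Epi e] (v' : L ≅ L')
  (h : a ≫ v'.hom = e ≫ a')

include h in
theorem nonempty_image_iso : Nonempty (image a ≅ image a') := by
  haveI : StrongEpi (e ≫ factorThruImage a') := strongEpi_of_epi _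
  exact ⟨(image.isoStrongEpiMono (f := a) (e ≫ factorThruImage a') (image.ι a' ≫ v'.inv) (by
    rw [Category.assoc, image.fac_assoc, ← Category.assoc, ← h, Category.assoc, v'.hom_inv_id,
      Category.comp_id])).symm⟩

include h in
theorem nonempty_cokernel_iso : Nonempty (cokernel a ≅ cokernel a') :=
  ⟨(cokernelCompIsIso a v'.hom).symm ≪≫ cokernelIsoOfEq h ≪≫ cokernelEpiComp e a'⟩

theorem subsingleton_ext_iso [HasExt.{w} C] {A A' B B' : C} (eA : A ≅ A') (eB : B ≅ B') (n : ℕ)
    (hs : Subsingleton (Abelian.Ext.{w} A' B' n)) : Subsingleton (Abelian.Ext.{w} A B n) := by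
  refine ⟨fun p q => ?_⟩
  have key : ∀ p : Abelian.Ext.{w} A B n, p = (Abelian.Ext.mk₀ eA.hom).comp
      ((((Abelian.Ext.mk₀ eA.inv).comp p (zero_add n)).comp (Abelian.Ext.mk₀ eB.hom) (add_zero n)).comp
        (Abelian.Ext.mk₀ eB.inv) (add_zero n)) (zero_add n) := fun p => by
    simp
  rw [key p, key q, hs.elim (((Abelian.Ext.mk₀ eA.inv).comp p (zero_add n)).comp
    (Abelian.Ext.mk₀ eB.hom) (add_zero n)) (((Abelian.Ext.mk₀ eA.inv).comp q (zero_add n)).comp
    (Abelian.Ext.mk₀ eB.hom) (add_zero n))]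

omit [Abelian C] in
theorem subsingleton_hom_iso {A A' B B' : C} (eA : A ≅ A') (eB : B ≅ B')
    (hs : Subsingleton (A' ⟶ B')) : Subsingleton (A ⟶ B) :=
  ⟨fun p q => by
    rw [← cancel_epi eA.inv, ← cancel_mono eB.hom]
    exact hs.elim _ _⟩

/-- The image of an epimorphism followed by a monomorphism. -/
theorem imageSubobject_epi_comp {M : C} (e' : M ⟶ K) [Epi e'] {L₀ : C} (m : K ⟶ L₀) [Mono m]
    (f : M ⟶ L₀) (hf : f = e' ≫ m) : imageSubobject f = Subobject.mk m := by
  subst hf
  haveI : StrongEpi e' := strongEpi_of_epi _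
  refine Subobject.eq_mk_of_comm m
    (imageSubobjectIso _ ≪≫ (image.isoStrongEpiMono e' m rfl).symm) ?_
  rw [Iso.trans_hom, Category.assoc, Iso.symm_hom, image.isoStrongEpiMono_inv_comp_mono]
  exact imageSubobject_arrow (e' ≫ m)

end Groth.Agent.HilbObsLib
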