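import Groth.Agent.HilbObsLib.Base
import Groth.Agent.HilbObsLib.Transfer
import Groth.Agent.DevLib.Closed
import Groth.Agent.PullbackMod.GenPSp
import Groth.Agent.PullbackMod.FibreLocus
import Groth.Agent.TildeOpenLib.Basic
import Groth.Agent.S12707
import Groth.Prelude.Def_ArtFun6
import Groth.Prelude.Def_FGA

/-!
# Extending quotients along surjections of local Artinian algebras
-/

set_option autoImplicit false
set_option backward.isDefEq.respectTransparency false
set_option linter.style.haveILetI false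

universe u

open CategoryTheory CategoryTheory.Limits AlgebraicGeometry TopologicalSpace Opposite
open Groth.Agent.PullbackMod Groth.Agent.DCohLib IsLocalRing

noncomputable section

namespace Groth.Agent.HilbObsLib

variable {k : Type u} [Field k] {X : Scheme.{u}} (x : X ⟶ Spec (CommRingCat.of k)) (E : X.Modules)

/-- `Spec A` over `k`. -/
abbrev T (A : ArtFun.Art k k) : Over (Spec (CommRingCat.of k)) := Over.mk (ArtFun.Art.specOver A)

/-- `X ×_k Spec A`. -/
abbrev Zs (A : ArtFun.Art k k) : Scheme.{u} := PicF.XT x (T A)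

/-- The morphism over `k` given by a map of algebras. -/
abbrev om {B A : ArtFun.Art k k} (g : B ⟶ A) : T A ⟶ T B :=
  Over.homMk (ArtFun.Art.specMap g) (ArtFun.Art.specOver_comp g)

/-- The inclusion `X_A ⟶ X_B`. -/
abbrev jm {B A : ArtFun.Art k k} (g : B ⟶ A) : Zs x A ⟶ Zs x B := PicF.XTmap x (om g)

/-- The closed fibre. -/
abbrev i₀ (A : ArtFun.Art k k) : Zs x (ArtFun.Art.base k k) ⟶ Zs x A := jm x (ArtFun.Art.toBase A)

theorem xtmap_comp {U V W : Over (Spec (CommRingCat.of k))} (a : W ⟶ V) (b : V ⟶ U) :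
    PicF.XTmap x (a ≫ b) = PicF.XTmap x a ≫ PicF.XTmap x b := by
  apply pullback.hom_ext <;>
    simp only [PicF.XTmap, pullback.map, Over.comp_left, pullback.lift_fst, pullback.lift_snd,
      Category.assoc, pullback.lift_fst_assoc, pullback.lift_snd_assoc, Category.comp_id]

theorem i₀_comp {B A : ArtFun.Art k k} (g : B ⟶ A) : i₀ x B = i₀ x A ≫ jm x g := by
  have h : g ≫ ArtFun.Art.toBase A = ArtFun.Art.toBase B := ArtFun.Art.eq_toBase _
  show PicF.XTmap x _ = PicF.XTmap x _ ≫ PicF.XTmap x _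
  rw [← xtmap_comp x, ← h]
  congr 1
  ext : 1
  exact ArtFun.Art.specMap_comp g (ArtFun.Art.toBase A)

variable {x E}

/-- A model of the closed fibre: compatible thickenings `W ⟶ X_A`. -/
structure Fibre (x : X ⟶ Spec (CommRingCat.of k)) where
  /-- The fibre. -/
  W : Scheme.{u}
  /-- Its inclusions. -/
  ι : ∀ A : ArtFun.Art k k, W ⟶ Zs x A
  comp : ∀ {B A : ArtFun.Art k k} (g : B ⟶ A), ι B = ι A ≫ jm x g
  thick : ∀ B : ArtFun.Art k k, letI := algOf (PicF.XTproj x (T B)); Thick (ι B) (maximalIdeal B)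
  noeth : IsLocallyNoetherian W

variable (Φ : Fibre x)

/-- Every extension of the restricted kernel by the restricted cokernel splits. -/
def SplitAt [HasExt.{u} Φ.W.Modules] (A : ArtFun.Art k k) {K L : (Zs x A).Modules}
    (f : K ⟶ L) : Prop :=
  Subsingleton (Abelian.Ext.{u} (image ((Scheme.Modules.pullback (Φ.ι A)).map f))
    (cokernel ((Scheme.Modules.pullback (Φ.ι A)).map f)) 1)

/-- There are no maps from the restricted kernel to the restricted cokernel. -/
def NoHomAt (A : ArtFun.Art k k) {K L : (Zs x A).Modules} (f : K ⟶ L) : Prop :=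
  Subsingleton (image ((Scheme.Modules.pullback (Φ.ι A)).map f) ⟶
    cokernel ((Scheme.Modules.pullback (Φ.ι A)).map f))

section transfer

variable {B A : ArtFun.Art k k} (g : B ⟶ A) {K L : (Zs x A).Modules} {f : K ⟶ L}
  {M N : (Zs x B).Modules} {f' : M ⟶ N} (e : (Scheme.Modules.pullback (jm x g)).obj M ⟶ K) [Epi e]
  (v : (Scheme.Modules.pullback (jm x g)).obj N ≅ L)
  (h : (Scheme.Modules.pullback (jm x g)).map f' ≫ v.hom = e ≫ f)

include h in
theorem exists_comparison :
    ∃ (e' : (Scheme.Modules.pullback (Φ.ι B)).obj M ⟶ (Scheme.Modules.pullback (Φ.ι A)).obj K) (_ : Epi e')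
      (v' : (Scheme.Modules.pullback (Φ.ι B)).obj N ≅ (Scheme.Modules.pullback (Φ.ι A)).obj L),
      (Scheme.Modules.pullback (Φ.ι B)).map f' ≫ v'.hom = e' ≫ (Scheme.Modules.pullback (Φ.ι A)).map f := by
  rw [Φ.comp g]
  refine ⟨(Scheme.Modules.pullbackComp (Φ.ι A) (jm x g)).inv.app M ≫
      (Scheme.Modules.pullback (Φ.ι A)).map e, inferInstance,
    ((Scheme.Modules.pullbackComp (Φ.ι A) (jm x g)).app N).symm ≪≫
      (Scheme.Modules.pullback (Φ.ι A)).mapIso v, ?_⟩
  rw [Iso.trans_hom, Iso.symm_hom, Iso.app_inv, Functor.mapIso_hom, Category.assoc, ← Functor.map_comp, ← h,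
    Functor.map_comp, NatTrans.naturality_assoc]
  rfl

include h in
theorem SplitAt.transfer [HasExt.{u} Φ.W.Modules] (hf : SplitAt Φ A f) :
    SplitAt Φ B f' := by
  obtain ⟨e', _, v', h'⟩ := exists_comparison Φ g e v h
  obtain ⟨a⟩ := nonempty_image_iso v' h'
  obtain ⟨b⟩ := nonempty_cokernel_iso v' h'
  exact subsingleton_ext_iso a b 1 hf

include h in
theorem NoHomAt.transfer (hf : NoHomAt Φ A f) : NoHomAt Φ B f' := by
  obtain ⟨e', _, v', h'⟩ := exists_comparison Φ g e v h
  obtain ⟨a⟩ := nonempty_image_iso v' h'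
  obtain ⟨b⟩ := nonempty_cokernel_iso v' h'
  exact subsingleton_hom_iso a b hf

end transfer

variable (x E)

/-- The quotient `E_B ⟶ (X_A)_* (E_A / K)`. -/
def qmap {B A : ArtFun.Art k k} (g : B ⟶ A) (K : Subobject (FGA.ET x E (T A))) :
    FGA.ET x E (T B) ⟶ (Scheme.Modules.pushforward (jm x g)).obj (cokernel K.arrow) :=
  (Scheme.Modules.pullbackPushforwardAdjunction (jm x g)).homEquiv _ _
    ((FGA.ETiso x E (om g)).hom ≫ cokernel.π K.arrow)

theorem pull_comp_qmap {B A : ArtFun.Art k k} (g : B ⟶ A) (K : Subobject (FGA.ET x E (T A)))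
    {M : (Zs x B).Modules} (κ : M ⟶ FGA.ET x E (T B)) (h : κ ≫ qmap x E g K = 0) :
    (Scheme.Modules.pullback (jm x g)).map κ ≫ (FGA.ETiso x E (om g)).hom ≫ cokernel.π K.arrow = 0 := by
  rw [qmap, ← Adjunction.homEquiv_naturality_left] at h
  refine ((Scheme.Modules.pullbackPushforwardAdjunction (jm x g)).homEquiv _ _).injective (h.trans ?_)
  exact ((Scheme.Modules.pullbackPushforwardAdjunction (jm x g)).homAddEquiv _ _).map_zero.symm

/-- The comparison map on stalks. -/
def θ {B A : ArtFun.Art k k} (g : B ⟶ A) (w : Zs x A)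
    (z : (FGA.ET x E (T B)).presheaf.stalk (jm x g w)) : (FGA.ET x E (T A)).presheaf.stalk w :=
  stalkLin (FGA.ETiso x E (om g)).hom w (pullStalk (jm x g) _ w z)

theorem pushStalk_qmap {B A : ArtFun.Art k k} (g : B ⟶ A) (K : Subobject (FGA.ET x E (T A)))
    (w : Zs x A) (z : (FGA.ET x E (T B)).presheaf.stalk (jm x g w)) :
    pushStalk (jm x g) _ w (stalkLin (qmap x E g K) (jm x g w) z) =
      stalkLin (cokernel.π K.arrow) w (θ x E g w z) := by
  rw [qmap, Adjunction.homEquiv_unit, stalkLin_comp, LinearMap.comp_apply]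
  refine (pushStalk_map (jm x g) _ w _).trans
    ((congrArg _ (unit_stalk_pushStalk (jm x g) _ w z)).trans ?_)
  rw [stalkLin_comp, LinearMap.comp_apply]
  rfl

theorem exists_of_pull {B A : ArtFun.Art k k} (g : B ⟶ A) (K : Subobject (FGA.ET x E (T A)))
    (w : Zs x A) {z : (FGA.ET x E (T A)).presheaf.stalk w}
    (hz : stalkLin (cokernel.π K.arrow) w z = 0) :
    ∃ y, stalkLin K.arrow w y = z := by
  have hS : (ShortComplex.mk K.arrow (cokernel.π K.arrow) (cokernel.condition _)).ShortExact :=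
    ShortComplex.ShortExact.mk' (ShortComplex.exact_of_g_is_cokernel _ (cokernelIsCokernel _))
      inferInstance inferInstance
  exact (DevLib.stalk_exact hS w z).1 hz

theorem isFlatOverAt_field (M : X.Modules) (y : X) : FlatMod.IsFlatOverAt x M y := by
  letI := FlatMod.moduleStalkOver x M y
  let e : k ≃+* (Spec (CommRingCat.of k)).presheaf.stalk (x y) :=
    RingEquiv.ofBijective (((Spec (CommRingCat.of k)).presheaf.germ ⊤ (x y) trivial).hom.comp
      (Scheme.ΓSpecIso (CommRingCat.of k)).inv.hom) (germTop_bijective (x y))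
  letI := (e.symm.toMulEquiv.isField (Field.toIsField k)).toField
  exact Module.Flat.of_free

variable {B A : ArtFun.Art k k} (g : B ⟶ A)

theorem isPullback_jm : IsPullback (jm x g) (PicF.XTproj x (T A)) (PicF.XTproj x (T B))
    (Spec.map (CommRingCat.ofHom g.toAlgHom.toRingHom)) :=
  PullbackMod.isPullback_XTmap x (om g)

theorem thick_jm (hg : Function.Surjective g) :
    letI := algOf (PicF.XTproj x (T B))
    Thick (jm x g) (RingHom.ker g.toAlgHom.toRingHom) :=
  thick_of_isPullback g.toAlgHom.toRingHom hg (isPullback_jm x g)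

theorem thick_i₀ (B : ArtFun.Art k k) :
    letI := algOf (PicF.XTproj x (T B))
    Thick (i₀ x B) (maximalIdeal B) := by
  letI := algOf (PicF.XTproj x (T B))
  have h := thick_jm x (ArtFun.Art.toBase B) B.res_surjective
  have hk : RingHom.ker (ArtFun.Art.toBase B).toAlgHom.toRingHom = maximalIdeal B :=
    IsLocalRing.eq_maximalIdeal (RingHom.ker_isMaximal_of_surjective _ B.res_surjective)
  rwa [hk] at h

theorem flatQuot_push (ε : B) (hg : Function.Surjective g)
    (hker : RingHom.ker g.toAlgHom.toRingHom = Ideal.span {ε}) (M : (Zs x A).Modules)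
    (hM : FlatMod.IsFlatOver (PicF.XTproj x (T A)) M) :
    letI := algOf (PicF.XTproj x (T B))
    FlatQuot (Ideal.span {ε}) ((Scheme.Modules.pushforward (jm x g)).obj M) := by
  letI := algOf (PicF.XTproj x (T B))
  intro z
  obtain ⟨w, rfl⟩ := (thick_jm x g hg).surj z
  haveI := (thick_jm x g hg).closedImm
  letI := algOf (PicF.XTproj x (T A))
  haveI : Module.Flat A (M.presheaf.stalk w) := flat_stalk_of_isFlatOverAt _ M w (hM w)
  let φ : (B ⧸ Ideal.span {ε}) ≃+* A :=
    (Ideal.quotEquivOfEq hker.symm).trans (RingHom.quotientKerEquivOfSurjective hg)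
  have hφ : ∀ b, φ (Ideal.Quotient.mk _ b) = g b := fun b => rfl
  let ψ : ((Scheme.Modules.pushforward (jm x g)).obj M).presheaf.stalk (jm x g w) ≃+ M.presheaf.stalk w :=
    AddEquiv.ofBijective (pushStalk (jm x g) M w) (bijective_pushStalk (jm x g) M w)
  letI := φ.toRingHom.toAlgebra
  letI : Module (B ⧸ Ideal.span {ε}) (M.presheaf.stalk w) := Module.compHom _ φ.toRingHom
  haveI : IsScalarTower (B ⧸ Ideal.span {ε}) A (M.presheaf.stalk w) := .of_algebraMap_smul fun _ _ => rfl
  haveI : Module.Flat (B ⧸ Ideal.span {ε}) A :=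
    Module.Flat.of_linearEquiv (LinearEquiv.ofBijective (Algebra.linearMap _ A) φ.bijective).symm
  haveI hfl : Module.Flat (B ⧸ Ideal.span {ε}) (M.presheaf.stalk w) :=
    Module.Flat.trans _ A (M.presheaf.stalk w)
  letI m := ψ.module (B ⧸ Ideal.span {ε})
  refine ⟨m, IsScalarTower.of_algebraMap_smul fun b n => ψ.injective ?_,
    Module.Flat.of_linearEquiv (ψ.linearEquiv (B ⧸ Ideal.span {ε}))⟩
  show ψ (ψ.symm (φ (Ideal.Quotient.mk _ b) • ψ n)) =
    pushStalk (jm x g) M w (scal (jm x g w) b • n)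
  rw [AddEquiv.apply_symm_apply, pushStalk_smul, hφ]
  show scal (B := A) w (g b) • ψ n = (jm x g).stalkMap w (scal (jm x g w) b) • ψ n
  refine congrArg (· • ψ n) ?_
  rw [scal_eq, scal_eq]
  refine ((Scheme.Hom.germ_stalkMap_apply (PicF.XTproj x (T A)) ⊤ w trivial _).trans ?_).trans
    (congrArg _ (Scheme.Hom.germ_stalkMap_apply (PicF.XTproj x (T B)) ⊤ (jm x g w) trivial _)).symm
  refine Eq.trans ?_ (Scheme.Hom.germ_stalkMap_apply (jm x g) ⊤ w trivial _).symm
  refine congrArg (fun t => (Zs x A).presheaf.germ ⊤ w trivial t) ?_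
  show (PicF.XTproj x (T A)).appTop _ = ((PicF.XTproj x (T B)).appTop ≫ (jm x g).appTop) _
  rw [← Scheme.Hom.comp_appTop, (isPullback_jm x g).w, Scheme.Hom.comp_appTop, CommRingCat.comp_apply]
  refine congrArg _ ?_
  exact congr($(Scheme.ΓSpecIso_inv_naturality (CommRingCat.ofHom g.toAlgHom.toRingHom)) b)

theorem isCoh_ET [LocallyOfFiniteType x] (hE : Coh.IsCoh E) (B : ArtFun.Art k k) :
    Coh.IsCoh (FGA.ET x E (T B)) :=
  PullbackMod.isCoh_pullback _ _ hE

theorem flat_ET [Coh.IsQCoh E] (B : ArtFun.Art k k) (z : Zs x B) :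
    letI := algOf (PicF.XTproj x (T B))
    Module.Flat B ((FGA.ET x E (T B)).presheaf.stalk z) :=
  flat_stalk_of_isFlatOverAt _ _ z
    (PullbackMod.isFlatOverAt_baseChange (IsPullback.of_hasPullback x (T B).hom) E z
      (isFlatOverAt_field x E _))

/-- A subobject whose pullback surjects onto `K` restricts to `K`. -/
theorem quotPull_eq (K : Subobject (FGA.ET x E (T A))) {M : (Zs x B).Modules} (κ : M ⟶ FGA.ET x E (T B))
    [Mono κ] (e : (Scheme.Modules.pullback (jm x g)).obj M ⟶ (K : (Zs x A).Modules)) [Epi e]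
    (h : (Scheme.Modules.pullback (jm x g)).map κ ≫ (FGA.ETiso x E (om g)).hom = e ≫ K.arrow) :
    FGA.quotPull x E (om g) (Subobject.mk κ) = K := by
  refine (imageSubobject_epi_comp ((Scheme.Modules.pullback (jm x g)).map (Subobject.underlyingIso κ).hom ≫ e)
    K.arrow _ ?_).trans (Subobject.mk_arrow K)
  rw [Category.assoc, ← h, ← Functor.map_comp_assoc, Subobject.underlyingIso_hom_comp_eq_mk]

theorem isFlatOver_of_stalk {M : (Zs x B).Modules}
    (h : letI := algOf (PicF.XTproj x (T B)); ∀ z, Module.Flat B (M.presheaf.stalk z)) :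
    FlatMod.IsFlatOver (PicF.XTproj x (T B)) M := fun z =>
  isFlatOverAt_of_flat_stalk _ M z (h z)

theorem epi_qmap (hsurj : Function.Surjective g) (K : Subobject (FGA.ET x E (T A))) :
    Epi (qmap x E g K) := by
  letI := algOf (PicF.XTproj x (T B))
  haveI : IsClosedImmersion (jm x g) := (thick_jm x g hsurj).closedImm
  refine (epi_iff_stalk _).2 fun z y => ?_
  obtain ⟨w, rfl⟩ := (thick_jm x g hsurj).surj z
  obtain ⟨a, ha⟩ := (epi_iff_stalk (cokernel.π K.arrow)).1 inferInstance w (pushStalk (jm x g) _ w y)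
  obtain ⟨b, rfl⟩ := ((isIso_iff_stalk (FGA.ETiso x E (om g)).hom).1 inferInstance w).2 a
  obtain ⟨c, rfl⟩ := pullStalk_surjective (thick_jm x g hsurj) _ w b
  exact ⟨c, (bijective_pushStalk (jm x g) _ w).1 ((pushStalk_qmap x E g K w c).trans ha)⟩

/-- The restriction of `ker q` surjects onto `K`. -/
theorem exists_res (hsurj : Function.Surjective g) (K : Subobject (FGA.ET x E (T A))) :
    ∃ e₀ : (Scheme.Modules.pullback (jm x g)).obj (kernel (qmap x E g K)) ⟶ (K : (Zs x A).Modules),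
      Epi e₀ ∧ (Scheme.Modules.pullback (jm x g)).map (kernel.ι (qmap x E g K)) ≫
        (FGA.ETiso x E (om g)).hom = e₀ ≫ K.arrow := by
  letI := algOf (PicF.XTproj x (T B))
  haveI : IsClosedImmersion (jm x g) := (thick_jm x g hsurj).closedImm
  let q := qmap x E g K
  have hpull := pull_comp_qmap x E g K (kernel.ι q) (kernel.condition q)
  obtain ⟨e₀, he₀⟩ : ∃ e₀ : (Scheme.Modules.pullback (jm x g)).obj (kernel q) ⟶ (K : (Zs x A).Modules),
      (Scheme.Modules.pullback (jm x g)).map (kernel.ι q) ≫ (FGA.ETiso x E (om g)).hom = e₀ ≫ K.arrow :=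
    ⟨Abelian.monoLift K.arrow _ (by rw [Category.assoc]; exact hpull),
      (Abelian.monoLift_comp _ _ _).symm⟩
  refine ⟨e₀, (epi_iff_stalk _).2 fun w y => ?_, he₀⟩
  obtain ⟨b, hb⟩ := ((isIso_iff_stalk (FGA.ETiso x E (om g)).hom).1 inferInstance w).2
    (stalkLin K.arrow w y)
  obtain ⟨c, rfl⟩ := pullStalk_surjective (thick_jm x g hsurj) _ w b
  have hc0 : stalkLin q (jm x g w) c = 0 := (bijective_pushStalk (jm x g) _ w).1 (by
    rw [pushStalk_qmap, θ, hb, map_zero, ← LinearMap.comp_apply, ← stalkLin_comp, cokernel.condition,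
      DevLib.stalkLin_zero, LinearMap.zero_apply])
  obtain ⟨n, rfl⟩ := stalk_kernel_ι_exists q _ hc0
  refine ⟨pullStalk (jm x g) _ w n, (mono_iff_stalk K.arrow).1 inferInstance w (Eq.trans ?_ hb)⟩
  rw [← LinearMap.comp_apply, ← stalkLin_comp, ← he₀, stalkLin_comp, LinearMap.comp_apply,
    pullStalk_natural]

theorem isLocallyNoetherian_Zs [LocallyOfFiniteType x] (B : ArtFun.Art k k) :
    IsLocallyNoetherian (Zs x B) := by
  haveI : IsLocallyNoetherian (T B).left :=
    inferInstanceAs (IsLocallyNoetherian (Spec (CommRingCat.of B)))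
  exact LocallyOfFiniteType.isLocallyNoetherian (PicF.XTproj x (T B))

theorem isNilpotent_maximalIdeal (B : ArtFun.Art k k) : IsNilpotent (maximalIdeal B) :=
  (IsArtinianRing.isNilpotent_jacobson_bot (R := B)).imp fun n hn => by
    rwa [IsLocalRing.jacobson_eq_maximalIdeal (⊥ : Ideal B) bot_ne_top] at hn

/-- A subobject given by an arrow with flat coherent cokernel. -/
theorem mk_mem_quotSet {M : (Zs x B).Modules} (κ : M ⟶ FGA.ET x E (T B)) [Mono κ]
    (hc : Coh.IsCoh (cokernel κ)) (hf : FlatMod.IsFlatOver (PicF.XTproj x (T B)) (cokernel κ)) :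
    Coh.IsCoh (cokernel (Subobject.mk κ).arrow) ∧
      FlatMod.IsFlatOver (PicF.XTproj x (T B)) (cokernel (Subobject.mk κ).arrow) :=
  let e : cokernel (Subobject.mk κ).arrow ≅ cokernel κ :=
    cokernelIsoOfEq (Subobject.underlyingIso_hom_comp_eq_mk κ).symm ≪≫ cokernelEpiComp _ κ
  ⟨TildeOpenLib.isCoh_of_iso' e.symm hc, fun z => PullbackMod.isFlatOverAt_of_iso e.symm _ z (hf z)⟩

/-- The closed fibre `X ×_k Spec k`. -/
def stdFibre [LocallyOfFiniteType x] : Fibre x where
  W := Zs x (ArtFun.Art.base k k)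
  ι A := i₀ x A
  comp g := i₀_comp x g
  thick B := thick_i₀ x B
  noeth := isLocallyNoetherian_Zs x _

variable (Φ : Fibre x)

set_option maxHeartbeats 1000000 in
/-- One small extension. -/
theorem exists_extension_small [LocallyOfFiniteType x] [HasExt.{u} Φ.W.Modules]
    (hE : Coh.IsCoh E) (hg : ArtFun.Art.IsSmallExt g) (K : FGA.QuotSet x E (T A))
    (hK : SplitAt Φ A K.1.arrow) :
    ∃ K' : FGA.QuotSet x E (T B), FGA.quotPull x E (om g) K'.1 = K.1 ∧ SplitAt Φ B K'.1.arrow := by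
  haveI := hE.1
  letI := algOf (PicF.XTproj x (T B))
  obtain ⟨hsurj, hne, hprin, hkill⟩ := hg
  haveI := hprin
  obtain ⟨ε, hker⟩ : ∃ ε, RingHom.ker g.toAlgHom.toRingHom = Ideal.span {ε} :=
    hprin.principal
  have hεker : ε ∈ RingHom.ker g.toAlgHom.toRingHom := hker.ge (Ideal.mem_span_singleton_self ε)
  have hε : ε ≠ 0 := fun h => hne (by
    refine hker.trans ?_
    rw [h, Ideal.span_singleton_eq_bot])
  have hεm : ε ∈ maximalIdeal B :=
    IsLocalRing.le_maximalIdeal (RingHom.ker_ne_top _) hεker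
  have hm : ∀ b ∈ maximalIdeal B, b * ε = 0 := fun b hb => by
    have h := Ideal.mul_mem_mul hb hεker
    rwa [show maximalIdeal B * RingHom.ker g.toAlgHom.toRingHom = ⊥ from hkill, Ideal.mem_bot] at h
  haveI : IsClosedImmersion (jm x g) := (thick_jm x g hsurj).closedImm
  haveI : IsClosedImmersion (Φ.ι B) := (Φ.thick B).closedImm
  haveI := isLocallyNoetherian_Zs x B
  have hQ := flatQuot_push x g ε hsurj hker _ K.2.2
  haveI := epi_qmap x E g hsurj K.1
  let q := qmap x E g K.1
  obtain ⟨e₀, hepi, he₀⟩ := exists_res x E g hsurj K.1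
  haveI := hepi
  have hθ : ∀ (w : Zs x A) (n : (kernel q).presheaf.stalk (jm x g w)),
      stalkLin K.1.arrow w (stalkLin e₀ w (pullStalk (jm x g) _ w n)) =
        θ x E g w (stalkLin (kernel.ι q) (jm x g w) n) := fun w n => by
    rw [← LinearMap.comp_apply, ← stalkLin_comp, ← he₀, stalkLin_comp, LinearMap.comp_apply,
      pullStalk_natural]
    rfl
  have hext : SplitAt Φ B (kernel.ι q) := hK.transfer Φ g e₀ (FGA.ETiso x E (om g)) he₀
  obtain ⟨Q₀, ρ, hQ₀, hflat, hsup⟩ := exists_lift ε q (Φ.thick B) hm hε hεm (flat_ET x E B) hQ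
    (isNilpotent_maximalIdeal B) hext
  have hcohK : Coh.IsCoh (kernel q) := (QCohLib.isCoh_kernel_cokernel q (isCoh_ET x E hE B)
    (DevLib.isCoh_pushforward_closed (jm x g) K.2.1)).1
  haveI := Φ.noeth
  have hcohQ₀ : Coh.IsCoh Q₀ := by
    rw [hQ₀]
    exact (QCohLib.isCoh_kernel_cokernel _ (PullbackMod.isCoh_pullback _ _ hcohK)
      (PullbackMod.isCoh_pullback _ _ (isCoh_ET x E hE B))).2
  have hcohK' : Coh.IsCoh (kernel ρ) :=
    (QCohLib.isCoh_kernel_cokernel ρ hcohK (DevLib.isCoh_pushforward_closed (Φ.ι B) hcohQ₀)).1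
  let κ : kernel ρ ⟶ FGA.ET x E (T B) := kernel.ι ρ ≫ kernel.ι q
  have hcoh : Coh.IsCoh (cokernel κ) := (QCohLib.isCoh_kernel_cokernel κ hcohK' (isCoh_ET x E hE B)).2
  refine ⟨⟨Subobject.mk κ, mk_mem_quotSet x E κ hcoh (isFlatOver_of_stalk x hflat)⟩, ?_⟩
  let e₁ := (Scheme.Modules.pullback (jm x g)).map (kernel.ι ρ) ≫ e₀
  haveI : Epi e₁ := by
    refine (epi_iff_stalk _).2 fun w y => ?_
    obtain ⟨y', rfl⟩ := (epi_iff_stalk e₀).1 inferInstance w y
    obtain ⟨n, rfl⟩ := pullStalk_surjective (thick_jm x g hsurj) _ w y'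
    obtain ⟨a, n', hn'⟩ := hsup (jm x g w) n
    refine ⟨pullStalk (jm x g) _ w n', ?_⟩
    rw [stalkLin_comp, LinearMap.comp_apply, pullStalk_natural, hn', map_sub, map_sub]
    refine sub_eq_self.2 ((mono_iff_stalk K.1.arrow).1 inferInstance w ?_)
    rw [hθ, map_zero, θ]
    have := ι_el ε q hQ (jm x g w) a
    rw [stalkB_apply] at this
    rw [this, pullStalk_smul_eq_zero (thick_jm x g hsurj) _ w hεker, map_zero]
  have hcomm : (Scheme.Modules.pullback (jm x g)).map κ ≫ (FGA.ETiso x E (om g)).hom = e₁ ≫ K.1.arrow := by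
    rw [Category.assoc, ← he₀, ← Functor.map_comp_assoc]
  refine ⟨quotPull_eq x E g K.1 κ e₁ hcomm, ?_⟩
  exact hK.transfer Φ g ((Scheme.Modules.pullback (jm x g)).map (Subobject.underlyingIso κ).hom ≫ e₁)
    (FGA.ETiso x E (om g)) (by
      rw [Category.assoc, ← hcomm, ← Functor.map_comp_assoc, Subobject.underlyingIso_hom_comp_eq_mk])

end Groth.Agent.HilbObsLib
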