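import Groth.Agent.HilbObsLib.Induct

/-!
# Uniqueness of extensions
-/

set_option autoImplicit false
set_option backward.isDefEq.respectTransparency false
set_option linter.style.haveILetI false

universe u

open CategoryTheory CategoryTheory.Limits AlgebraicGeometry TopologicalSpace Opposite
open Groth.Agent.PullbackMod Groth.Agent.DCohLib IsLocalRing

noncomputable section

namespace Groth.Agent.HilbObsLib

theorem le_of_stalk {Z : Scheme.{u}} {E : Z.Modules} (K L : Subobject E)
    (h : ∀ z n, ∃ m, stalkLin L.arrow z m = stalkLin K.arrow z n) : K ≤ L := by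
  have h0 : K.arrow ≫ cokernel.π L.arrow = 0 := by
    refine (eq_zero_iff_stalk _).2 fun z => LinearMap.ext fun n => ?_
    obtain ⟨m, hm⟩ := h z n
    rw [stalkLin_comp, LinearMap.comp_apply, ← hm, ← LinearMap.comp_apply, ← stalkLin_comp,
      cokernel.condition, DevLib.stalkLin_zero]
    rfl
  exact Subobject.le_of_comm (Abelian.monoLift L.arrow K.arrow h0) (Abelian.monoLift_comp _ _ _)

variable {k : Type u} [Field k] {X : Scheme.{u}} (x : X ⟶ Spec (CommRingCat.of k)) (E : X.Modules)
variable {B A : ArtFun.Art k k} (g : B ⟶ A)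

theorem exists_factor {K' : Subobject (FGA.ET x E (T B))} {K : Subobject (FGA.ET x E (T A))}
    (h : FGA.quotPull x E (om g) K' = K) :
    ∃ e : (Scheme.Modules.pullback (jm x g)).obj (K' : (Zs x B).Modules) ⟶ (K : (Zs x A).Modules),
      Epi e ∧ (Scheme.Modules.pullback (jm x g)).map K'.arrow ≫ (FGA.ETiso x E (om g)).hom = e ≫ K.arrow := by
  subst h
  exact ⟨factorThruImageSubobject _, inferInstance, (imageSubobject_arrow_comp _).symm⟩

variable [LocallyOfFiniteType x]

/-- The restriction of a quotient is a quotient. -/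
theorem quotPull_mem (hg : Function.Surjective g) (hE : Coh.IsCoh E) (K' : FGA.QuotSet x E (T B)) :
    Coh.IsCoh (cokernel (FGA.quotPull x E (om g) K'.1).arrow) ∧
      FlatMod.IsFlatOver (PicF.XTproj x (T A)) (cokernel (FGA.quotPull x E (om g) K'.1).arrow) := by
  obtain ⟨e, he, hcomm⟩ := exists_factor x E g (rfl : FGA.quotPull x E (om g) K'.1 = _)
  haveI := he
  obtain ⟨i₁⟩ := nonempty_cokernel_iso (FGA.ETiso x E (om g)) hcomm
  let i₂ := i₁.symm ≪≫ (PreservesCokernel.iso (Scheme.Modules.pullback (jm x g)) K'.1.arrow).symm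
  haveI := hE.1
  haveI := K'.2.1.1
  exact ⟨TildeOpenLib.isCoh_of_iso' i₂.symm (PullbackMod.isCoh_pullback _ _ K'.2.1),
    fun w => PullbackMod.isFlatOverAt_of_iso i₂.symm _ w
      (PullbackMod.isFlatOverAt_baseChange (isPullback_jm x g) _ w (K'.2.2 _))⟩

/-- Stalkwise description of lifts. -/
theorem lift_spec (hg : Function.Surjective g) {K' : Subobject (FGA.ET x E (T B))}
    {K : Subobject (FGA.ET x E (T A))} (h : FGA.quotPull x E (om g) K' = K) :
    K'.arrow ≫ qmap x E g K = 0 ∧
      (letI := algOf (PicF.XTproj x (T B));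
      ∀ z (n : (kernel (qmap x E g K)).presheaf.stalk z), ∃ n' : (K' : (Zs x B).Modules).presheaf.stalk z,
        stalkLin (kernel.ι (qmap x E g K)) z n - stalkLin K'.arrow z n' ∈
          (RingHom.ker g.toAlgHom.toRingHom • ⊤ : Submodule B ((FGA.ET x E (T B)).presheaf.stalk z))) := by
  obtain ⟨e, he, hcomm⟩ := exists_factor x E g h
  haveI := he
  have hzero : (Scheme.Modules.pullback (jm x g)).map K'.arrow ≫
      ((FGA.ETiso x E (om g)).hom ≫ cokernel.π K.arrow) = 0 := by
    rw [← Category.assoc, hcomm, Category.assoc, cokernel.condition, comp_zero]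
  refine ⟨?_, ?_⟩
  · rw [qmap, ← Adjunction.homEquiv_naturality_left, hzero]
    exact ((Scheme.Modules.pullbackPushforwardAdjunction (jm x g)).homAddEquiv _ _).map_zero
  letI := algOf (PicF.XTproj x (T B))
  intro z n
  have hth := thick_jm x g hg
  haveI := hth.closedImm
  obtain ⟨w, rfl⟩ := hth.surj z
  have hn : stalkLin (cokernel.π K.arrow) w
      (θ x E g w (stalkLin (kernel.ι (qmap x E g K)) (jm x g w) n)) = 0 := by
    rw [← pushStalk_qmap, stalk_kernel_ι_comp, map_zero]
  obtain ⟨y, hy⟩ := exists_of_pull x E g K w hn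
  obtain ⟨y', rfl⟩ := (epi_iff_stalk e).1 he w y
  obtain ⟨n', rfl⟩ := pullStalk_surjective hth _ w y'
  refine ⟨n', (pullStalk_eq_zero_iff hth _ w _).1 ?_⟩
  refine ((isIso_iff_stalk (FGA.ETiso x E (om g)).hom).1 inferInstance w).1 ?_
  rw [← LinearMap.comp_apply, ← stalkLin_comp, ← hcomm, stalkLin_comp, LinearMap.comp_apply,
    pullStalk_natural] at hy
  rw [map_sub, map_sub, map_zero, sub_eq_zero]
  exact hy.symm

variable (Φ : Fibre x)

/-- Quotients with the same restriction along a small extension coincide. -/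
theorem eq_small (hE : Coh.IsCoh E) (hg : ArtFun.Art.IsSmallExt g) (K' K'' : FGA.QuotSet x E (T B))
    (h : FGA.quotPull x E (om g) K'.1 = FGA.quotPull x E (om g) K''.1)
    (hK : NoHomAt Φ A (FGA.quotPull x E (om g) K'.1).arrow) : K'.1 = K''.1 := by
  haveI := hE.1
  letI := algOf (PicF.XTproj x (T B))
  obtain ⟨hsurj, hne, hprin, hkill⟩ := hg
  obtain ⟨ε, hker⟩ : ∃ ε, RingHom.ker g.toAlgHom.toRingHom = Ideal.span {ε} :=
    hprin.principal
  have hεker : ε ∈ RingHom.ker g.toAlgHom.toRingHom := hker.ge (Ideal.mem_span_singleton_self ε)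
  have hε : ε ≠ 0 := fun h => hne (by
    refine hker.trans ?_
    rw [h, Ideal.span_singleton_eq_bot])
  have hεm : ε ∈ maximalIdeal B :=
    IsLocalRing.le_maximalIdeal (RingHom.ker_ne_top _) hεker
  have hm : ∀ b ∈ maximalIdeal B, b * ε = 0 := fun b hb => by
    have h := Ideal.mul_mem_mul hb hεker
    rwa [show maximalIdeal B * RingHom.ker g.toAlgHom.toRingHom = ⊥ from hkill, Ideal.mem_bot] at h
  set K := FGA.quotPull x E (om g) K'.1 with hKdef
  have hQ := flatQuot_push x g ε hsurj hker _ (quotPull_mem x E g hsurj hE K').2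
  haveI := epi_qmap x E g hsurj K
  obtain ⟨e₀, hepi, he₀⟩ := exists_res x E g hsurj K
  haveI := hepi
  have hhom : NoHomAt Φ B (kernel.ι (qmap x E g K)) := hK.transfer Φ g e₀ (FGA.ETiso x E (om g)) he₀
  have hL : ∀ L : FGA.QuotSet x E (T B), FGA.quotPull x E (om g) L.1 = K →
      IsLift ε (qmap x E g K) hQ L.1.arrow := by
    intro L hL
    obtain ⟨h1, h2⟩ := lift_spec x E g hsurj hL
    refine ⟨inferInstance, h1, fun z => ?_, fun z n => ?_⟩
    · haveI : Module.Flat B ((cokernel L.1.arrow).presheaf.stalk z) :=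
        flat_stalk_of_isFlatOverAt _ _ z (L.2.2 z)
      have hT : (ShortComplex.mk L.1.arrow (cokernel.π L.1.arrow) (cokernel.condition _)).ShortExact :=
        ShortComplex.ShortExact.mk' (ShortComplex.exact_of_g_is_cokernel _ (cokernelIsCokernel _))
          inferInstance inferInstance
      have hex : LinearMap.ker (stalkB (B := B) (cokernel.π L.1.arrow) z) =
          LinearMap.range (stalkB (B := B) L.1.arrow z) := by
        ext y
        exact DevLib.stalk_exact hT z y
      exact Module.Flat.of_linearEquiv (((Submodule.quotEquivOfEq _ _ hex).symm.trans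
        ((stalkB (B := B) (cokernel.π L.1.arrow) z).quotKerEquivOfSurjective
          ((epi_iff_stalk (cokernel.π L.1.arrow)).1 inferInstance z))))
    · obtain ⟨n', hn'⟩ := h2 z n
      rw [hker] at hn'
      obtain ⟨y, hy⟩ := exists_of_mem_span_smul ε hn'
      exact ⟨y, n', by rw [← hy, sub_sub_cancel]⟩
  refine le_antisymm (le_of_stalk _ _ fun z n => ?_) (le_of_stalk _ _ fun z n => ?_)
  · exact (hL K' rfl).range_le ε (qmap x E g K) (Φ.thick B) hm hε hεm (flat_ET x E B) hhom
      (hL K'' h.symm) z n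
  · exact (hL K'' h.symm).range_le ε (qmap x E g K) (Φ.thick B) hm hε hεm (flat_ET x E B) hhom
      (hL K' rfl) z n

/-- Quotients with the same restriction along a surjection coincide. -/
theorem eq_of_quotPull_eq (hE : Coh.IsCoh E) (hg : Function.Surjective g) :
    ∀ K' K'' : FGA.QuotSet x E (T B), FGA.quotPull x E (om g) K'.1 = FGA.quotPull x E (om g) K''.1 →
      NoHomAt Φ A (FGA.quotPull x E (om g) K'.1).arrow → K'.1 = K''.1 := by
  refine fun K' K'' h hK => (Groth.Agent.S12707.result (P := fun A B g => Function.Surjective g ∧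
      ∀ K' K'' : FGA.QuotSet x E (T B), FGA.quotPull x E (om g) K'.1 = FGA.quotPull x E (om g) K''.1 →
      NoHomAt Φ A (FGA.quotPull x E (om g) K'.1).arrow → K'.1 = K''.1)
    (fun A B g hiso => ?_) (fun A B g hs => ⟨hs.1, fun K' K'' h hK => eq_small x E g Φ hE hs K' K'' h hK⟩)
    (fun A B C p q hp hq => ⟨hq.1.comp hp.1, fun K' K'' h hK => ?_⟩) g hg).2 K' K'' h hK
  · have hbij : Function.Bijective g :=
      Function.bijective_iff_has_inverse.2 ⟨inv g, fun b => congr($(IsIso.hom_inv_id g) b),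
        fun a => congr($(IsIso.inv_hom_id g) a)⟩
    refine ⟨hbij.2, fun K' K'' h _ => ?_⟩
    letI := algOf (PicF.XTproj x (T B))
    have key : ∀ L L' : FGA.QuotSet x E (T B),
        FGA.quotPull x E (om g) L.1 = FGA.quotPull x E (om g) L'.1 → L.1 ≤ L'.1 := fun L L' e => by
      obtain ⟨h1, -⟩ := lift_spec x E g hbij.2 e
      obtain ⟨-, h2⟩ := lift_spec x E g hbij.2 (rfl : FGA.quotPull x E (om g) L'.1 = _)
      refine le_of_stalk _ _ fun z n => ?_
      obtain ⟨n', hn'⟩ := h2 z (stalkLin (kernel.lift _ L.1.arrow h1) z n)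
      rw [show RingHom.ker g.toAlgHom.toRingHom = ⊥ from (RingHom.injective_iff_ker_eq_bot _).1 hbij.1,
        Submodule.bot_smul, Submodule.mem_bot, sub_eq_zero] at hn'
      refine ⟨n', hn'.symm.trans ?_⟩
      rw [← LinearMap.comp_apply, ← stalkLin_comp, kernel.lift_ι]
    exact le_antisymm (key K' K'' h) (key K'' K' h.symm)
  · rw [← quotPull_om_comp, ← quotPull_om_comp] at h
    rw [← quotPull_om_comp] at hK
    let L' : FGA.QuotSet x E (T B) := ⟨_, quotPull_mem x E p hp.1 hE K'⟩
    let L'' : FGA.QuotSet x E (T B) := ⟨_, quotPull_mem x E p hp.1 hE K''⟩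
    have hL : L'.1 = L''.1 := hq.2 L' L'' h hK
    refine hp.2 K' K'' hL ?_
    obtain ⟨e, he, hcomm⟩ := exists_factor x E q (rfl : FGA.quotPull x E (om q) L'.1 = _)
    haveI := he
    exact hK.transfer Φ q e (FGA.ETiso x E (om q)) hcomm

/-- Hypotheses on the closed fibre pass to every restriction. -/
theorem exists_fibre_comparison (K : Subobject (FGA.ET x E (T A)))
    (K₀ : Subobject (FGA.ET x E (T (ArtFun.Art.base k k))))
    (h : FGA.quotPull x E (om (ArtFun.Art.toBase A)) K = K₀) :
    Nonempty (image ((Scheme.Modules.pullback (i₀ x A)).map K.arrow) ≅ (K₀ : (Zs x _).Modules)) ∧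
      Nonempty (cokernel ((Scheme.Modules.pullback (i₀ x A)).map K.arrow) ≅ cokernel K₀.arrow) := by
  obtain ⟨e, he, hcomm⟩ := exists_factor x E (ArtFun.Art.toBase A) h
  haveI := he
  obtain ⟨a⟩ := nonempty_image_iso (FGA.ETiso x E (om (ArtFun.Art.toBase A))) hcomm
  exact ⟨⟨a ≪≫ imageMonoIsoSource K₀.arrow⟩, nonempty_cokernel_iso _ hcomm⟩

end Groth.Agent.HilbObsLib
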